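/-
Commuting 2-elements of the alternating group of degree eight.
-/
import Mathlib

set_option autoImplicit false

namespace CfsgLib.AltSection

open Equiv

/-- First representative of an element of order four. -/
def rA : Perm (Fin 8) := c[0, 1, 2, 3] * c[4, 5, 6, 7]

/-- Second representative of an element of order four. -/
def rB : Perm (Fin 8) := c[0, 1, 2, 3] * c[4, 5]

/-- The cycle on the first block. -/
def cP : Perm (Fin 8) := c[0, 1, 2, 3]

/-- The cycle on the second block. -/
def cQ : Perm (Fin 8) := c[4, 5, 6, 7]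

/-- The exchange of the two blocks. -/
def sw : Perm (Fin 8) := swap 0 4 * (swap 1 5 * (swap 2 6 * swap 3 7))

/-- The odd elements centralising the first representative. -/
def oddA : List (Perm (Fin 8)) :=
  [(0, 1), (0, 3), (1, 0), (1, 2), (2, 1), (2, 3), (3, 0), (3, 2)].flatMap fun p : ℕ × ℕ =>
    [cP ^ p.1 * cQ ^ p.2, sw * (cP ^ p.1 * cQ ^ p.2)]

theorem oddA_sign : ∀ g ∈ oddA, Perm.sign g = -1 := by
  have h4 : ∀ l : List (Fin 8), l.Nodup → l.length = 4 → Perm.sign l.formPerm = -1 := fun l hn hl => by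
    rw [(List.isCycle_formPerm hn (by omega)).sign,
      List.support_formPerm_of_nodup l hn (fun x h => by simp [h] at hl),
      List.card_toFinset, hn.dedup, hl]
    norm_num
  have hP : Perm.sign cP = -1 := h4 [0, 1, 2, 3] (by decide) rfl
  have hQ : Perm.sign cQ = -1 := h4 [4, 5, 6, 7] (by decide) rfl
  have hS : Perm.sign sw = 1 := by
    rw [sw, map_mul, map_mul, map_mul, Perm.sign_swap (by decide), Perm.sign_swap (by decide),
      Perm.sign_swap (by decide), Perm.sign_swap (by decide)]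
    rfl
  intro g hg
  simp only [oddA, List.flatMap_cons, List.flatMap_nil, List.cons_append, List.nil_append, List.append_nil,
    List.mem_cons, List.not_mem_nil, or_false] at hg
  rcases hg with rfl | rfl | rfl | rfl | rfl | rfl | rfl | rfl | rfl | rfl | rfl | rfl | rfl | rfl | rfl | rfl <;>
    simp [map_mul, map_pow, hP, hQ, hS] <;> decide

/-- A map commuting with `rA`, from two values. -/
def fA (x y : Fin 8) : Fin 8 → Fin 8 :=
  ![x, rA x, rA (rA x), rA (rA (rA x)), y, rA y, rA (rA y), rA (rA (rA y))]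

/-- A map commuting with `rB`, from four values. -/
def fB (x y z w : Fin 8) : Fin 8 → Fin 8 :=
  ![x, rB x, rB (rB x), rB (rB (rB x)), y, rB y, z, w]

theorem fA_cases : ∀ x y : Fin 8, (∀ i j : Fin 8, fA x y i = fA x y j → i = j) →
    (∀ i, fA x y (fA x y i) = i) ∨ (∀ i, fA x y (fA x y i) = rA (rA i)) ∨
    ∃ g ∈ oddA, ∀ i, fA x y i = g i := by decide +kernel

theorem fB_cases : ∀ x y z w : Fin 8, (∀ i, fB x y z w (rB i) = rB (fB x y z w i)) →
    (∀ i j : Fin 8, fB x y z w i = fB x y z w j → i = j) →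
    (∀ i, fB x y z w (fB x y z w i) = i) ∨ (∀ i, fB x y z w (fB x y z w i) = rB (rB i)) := by
  decide +kernel

theorem rA_cycle : rA 0 = 1 ∧ rA 1 = 2 ∧ rA 2 = 3 ∧ rA 4 = 5 ∧ rA 5 = 6 ∧ rA 6 = 7 ∧
    rB 0 = 1 ∧ rB 1 = 2 ∧ rB 2 = 3 ∧ rB 4 = 5 := by decide +kernel

theorem rA_type : rA.cycleType = {4, 4} ∧ rB.cycleType = {4, 2} := by
  have hc : ∀ σ τ : Perm (Fin 8), σ.IsCycle → τ.IsCycle → σ.Disjoint τ →
      (σ * τ).cycleType = {σ.support.card, τ.support.card} := fun σ τ h1 h2 h3 => by
    rw [h3.cycleType_mul, h1.cycleType, h2.cycleType]; rfl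
  refine ⟨?_, ?_⟩
  · refine (hc _ _ ?_ ?_ ?_).trans ?_
    · exact List.isCycle_formPerm (by decide) (by decide)
    · exact List.isCycle_formPerm (by decide) (by decide)
    · rw [Perm.disjoint_iff_disjoint_support]; decide +kernel
    · decide +kernel
  · refine (hc _ _ ?_ ?_ ?_).trans ?_
    · exact List.isCycle_formPerm (by decide) (by decide)
    · exact List.isCycle_formPerm (by decide) (by decide)
    · rw [Perm.disjoint_iff_disjoint_support]; decide +kernel
    · decide +kernel

theorem two_part {a : Perm (Fin 8)} (h2 : ∃ k, a ^ 2 ^ k = 1) {n : ℕ} (hn : n ∈ a.cycleType) :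
    n = 2 ∨ n = 4 ∨ n = 8 := by
  obtain ⟨k, hk⟩ := h2
  have h1 : n ∣ 2 ^ k := (Perm.dvd_of_mem_cycleType hn).trans (orderOf_dvd_of_pow_eq_one hk)
  obtain ⟨j, -, rfl⟩ := (Nat.dvd_prime_pow Nat.prime_two).1 h1
  have h8 : 2 ^ j ≤ 8 := (Perm.le_card_support_of_mem_cycleType hn).trans (Finset.card_le_univ _)
  have h2' := Perm.two_le_of_mem_cycleType hn
  have hj : j < 4 := by
    by_contra hj
    have := Nat.pow_le_pow_right (show 1 ≤ 2 by norm_num) (show 4 ≤ j by omega)
    omega
  interval_cases j <;> simp_all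

/-- A 2-element of `A₈` is of order at most two or of one of two cycle types. -/
theorem type_cases {a : Perm (Fin 8)} (hs : Perm.sign a = 1) (h2 : ∃ k, a ^ 2 ^ k = 1) :
    a ^ 2 = 1 ∨ a.cycleType = {4, 4} ∨ a.cycleType = {4, 2} := by
  have hsum : a.cycleType.sum ≤ 8 := by
    rw [Perm.sum_cycleType]; exact Finset.card_le_univ _
  have hp := Perm.sign_of_cycleType a
  rw [hs] at hp
  have hpar : Even (a.cycleType.sum + Multiset.card a.cycleType) := by
    rwa [eq_comm, neg_one_pow_eq_one_iff_even (by decide)] at hp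
  by_cases h4 : 4 ∈ a.cycleType ∨ 8 ∈ a.cycleType
  · right
    rcases h4 with h4 | h8
    · obtain ⟨m, hm⟩ := Multiset.exists_cons_of_mem h4
      rw [hm, Multiset.sum_cons] at hsum hpar
      rw [Multiset.card_cons] at hpar
      have hm' : ∀ n ∈ m, n = 2 ∨ n = 4 := fun n hn => by
        rcases two_part h2 (hm ▸ Multiset.mem_cons_of_mem hn) with h | h | h
        · exact Or.inl h
        · exact Or.inr h
        · have := Multiset.le_sum_of_mem hn; omega
      rcases Multiset.empty_or_exists_mem m with rfl | ⟨n, hn⟩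
      · norm_num at hpar
      obtain ⟨m', rfl⟩ := Multiset.exists_cons_of_mem hn
      rw [Multiset.sum_cons] at hsum hpar
      rw [Multiset.card_cons] at hpar
      rcases Multiset.empty_or_exists_mem m' with rfl | ⟨n', hn'⟩
      · rcases hm' n (Multiset.mem_cons_self _ _) with rfl | rfl
        · exact Or.inr hm
        · exact Or.inl hm
      obtain ⟨m'', rfl⟩ := Multiset.exists_cons_of_mem hn'
      rw [Multiset.sum_cons] at hsum hpar
      rw [Multiset.card_cons] at hpar
      have e1 := hm' n (Multiset.mem_cons_self _ _)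
      have e2 := hm' n' (Multiset.mem_cons_of_mem (Multiset.mem_cons_self _ _))
      rcases Multiset.empty_or_exists_mem m'' with rfl | ⟨n'', hn''⟩
      · exfalso
        rw [Multiset.sum_zero] at hsum hpar
        obtain ⟨rfl, rfl⟩ : n = 2 ∧ n' = 2 := by omega
        exact absurd hpar (by decide)
      · exfalso
        have := Multiset.le_sum_of_mem hn''
        have := hm' n'' (Multiset.mem_cons_of_mem (Multiset.mem_cons_of_mem hn''))
        omega
    · exfalso
      obtain ⟨m, hm⟩ := Multiset.exists_cons_of_mem h8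
      rw [hm, Multiset.sum_cons] at hsum hpar
      rcases Multiset.empty_or_exists_mem m with rfl | ⟨n, hn⟩
      · norm_num at hpar
      · have := Multiset.le_sum_of_mem hn
        have := Perm.two_le_of_mem_cycleType (hm ▸ Multiset.mem_cons_of_mem hn)
        omega
  · left
    push Not at h4
    rw [← orderOf_dvd_iff_pow_eq_one, ← Perm.lcm_cycleType, Multiset.lcm_dvd]
    intro n hn
    rcases two_part h2 hn with rfl | rfl | rfl
    · exact dvd_rfl
    · exact absurd hn h4.1
    · exact absurd hn h4.2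

theorem sq_of_rA {b : Perm (Fin 8)} (hs : Perm.sign b = 1) (hc : Commute b rA) :
    b ^ 2 = 1 ∨ b ^ 2 = rA ^ 2 := by
  have h : ∀ i, b (rA i) = rA (b i) := fun i => congrArg (fun g : Perm (Fin 8) => g i) hc.eq
  obtain ⟨a0, a1, a2, a4, a5, a6, -⟩ := rA_cycle
  have e : ∀ i, b i = fA (b 0) (b 4) i := by
    have h1 : b 1 = rA (b 0) := by rw [← h, a0]
    have h2 : b 2 = rA (rA (b 0)) := by rw [← h1, ← h, a1]
    have h3 : b 3 = rA (rA (rA (b 0))) := by rw [← h2, ← h, a2]
    have h5 : b 5 = rA (b 4) := by rw [← h, a4]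
    have h6 : b 6 = rA (rA (b 4)) := by rw [← h5, ← h, a5]
    have h7 : b 7 = rA (rA (rA (b 4))) := by rw [← h6, ← h, a6]
    intro i
    fin_cases i <;> simp [fA, h1, h2, h3, h5, h6, h7]
  rcases fA_cases (b 0) (b 4) (fun i j hij => b.injective (by rw [e i, e j, hij])) with hi | hi | ⟨g, hg, hi⟩
  · refine Or.inl (Perm.ext fun i => ?_)
    rw [sq, Perm.mul_apply, e i, e (fA _ _ i)]; exact hi i
  · refine Or.inr (Perm.ext fun i => ?_)
    rw [sq, sq, Perm.mul_apply, Perm.mul_apply, e i, e (fA _ _ i)]; exact hi i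
  · exfalso
    have : b = g := Perm.ext fun i => (e i).trans (hi i)
    rw [this, oddA_sign g hg] at hs
    exact absurd hs (by decide)

theorem sq_of_rB {b : Perm (Fin 8)} (hc : Commute b rB) : b ^ 2 = 1 ∨ b ^ 2 = rB ^ 2 := by
  have h : ∀ i, b (rB i) = rB (b i) := fun i => congrArg (fun g : Perm (Fin 8) => g i) hc.eq
  obtain ⟨-, -, -, -, -, -, a0, a1, a2, a4⟩ := rA_cycle
  have e : ∀ i, b i = fB (b 0) (b 4) (b 6) (b 7) i := by
    have h1 : b 1 = rB (b 0) := by rw [← h, a0]
    have h2 : b 2 = rB (rB (b 0)) := by rw [← h1, ← h, a1]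
    have h3 : b 3 = rB (rB (rB (b 0))) := by rw [← h2, ← h, a2]
    have h5 : b 5 = rB (b 4) := by rw [← h, a4]
    intro i
    fin_cases i <;> simp [fB, h1, h2, h3, h5]
  rcases fB_cases (b 0) (b 4) (b 6) (b 7) (fun i => by rw [← e, ← e, h])
      (fun i j hij => b.injective (by rw [e i, e j, hij])) with hi | hi
  · refine Or.inl (Perm.ext fun i => ?_)
    rw [sq, Perm.mul_apply, e i, e (fB _ _ _ _ i)]; exact hi i
  · refine Or.inr (Perm.ext fun i => ?_)
    rw [sq, sq, Perm.mul_apply, Perm.mul_apply, e i, e (fB _ _ _ _ i)]; exact hi i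

/-- Commuting 2-elements of `A₈` with non-trivial squares have equal squares. -/
theorem sq_eq_sq {a b : alternatingGroup (Fin 8)} (ha : ∃ k, a ^ 2 ^ k = 1) (ha1 : a ^ 2 ≠ 1)
    (hb1 : b ^ 2 ≠ 1) (hc : Commute a b) : b ^ 2 = a ^ 2 := by
  have h2 : ∃ k, (a : Perm (Fin 8)) ^ 2 ^ k = 1 := by
    obtain ⟨k, hk⟩ := ha
    exact ⟨k, by rw [← Subgroup.coe_pow, hk]; rfl⟩
  have hA : Perm.sign (a : Perm (Fin 8)) = 1 := a.2
  have hB : Perm.sign (b : Perm (Fin 8)) = 1 := b.2
  have hne : (a : Perm (Fin 8)) ^ 2 ≠ 1 := fun h => ha1 (Subtype.ext (by simpa using h))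
  have hbne : (b : Perm (Fin 8)) ^ 2 ≠ 1 := fun h => hb1 (Subtype.ext (by simpa using h))
  refine Subtype.ext ?_
  simp only [Subgroup.coe_pow]
  have hcP : Commute (a : Perm (Fin 8)) (b : Perm (Fin 8)) := congrArg Subtype.val hc.eq
  have key : ∀ r : Perm (Fin 8), (a : Perm (Fin 8)).cycleType = r.cycleType →
      (∀ c : Perm (Fin 8), Perm.sign c = 1 → Commute c r → c ^ 2 = 1 ∨ c ^ 2 = r ^ 2) →
      (b : Perm (Fin 8)) ^ 2 = (a : Perm (Fin 8)) ^ 2 := by
    intro r hr hsq
    obtain ⟨g, hg⟩ := isConj_iff.1 (Perm.isConj_iff_cycleType_eq.2 hr)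
    have hcr : Commute (g * (b : Perm (Fin 8)) * g⁻¹) r := by
      rw [← hg]
      show _ * _ = _ * _
      rw [conj_mul, conj_mul, hcP.symm.eq]
    rcases hsq _ (by simp [hB]) hcr with h | h
    · rw [conj_pow, conj_eq_one_iff] at h
      exact absurd h hbne
    · rw [← hg, conj_pow, conj_pow] at h
      exact mul_left_cancel (mul_right_cancel h)
  rcases type_cases hA h2 with h | h | h
  · exact absurd h hne
  · exact key rA (h.trans rA_type.1.symm) fun c hc hcr => sq_of_rA hc hcr
  · exact key rB (h.trans rA_type.2.symm) fun c _ hcr => sq_of_rB hcr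

end CfsgLib.AltSection
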