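/-
Alternating sections excluded by torus fusion at five and by the Sylow 2-subgroups.
-/
import Mathlib
import Cfsg.Agent.Lib.Known.AltSection.EightTwo

set_option autoImplicit false

namespace CfsgLib.AltSection

open scoped Pointwise

/-- One `l`-subgroup of the preimage lifts every fusion of an element of prime order. -/
theorem exists_frattini {H A : Type*} [Group H] [Finite H] [Group A] (π : H →* A)
    (hsurj : Function.Surjective π) {l : ℕ} [Fact l.Prime] {σ : A} (hσ : orderOf σ = l) :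
    ∃ (P : Subgroup H) (d : H), IsPGroup l P ∧ d ∈ P ∧ π d = σ ∧
      ∀ (τ : A) (k : ℕ), k.Coprime l → τ * σ * τ⁻¹ = σ ^ k →
        ∃ (x : H) (j : ℤ), (∀ a ∈ P, x * a * x⁻¹ ∈ P) ∧ π x = σ ^ j * τ := by
  set L := (Subgroup.zpowers σ).comap π with hL
  obtain ⟨P⟩ : Nonempty (Sylow l ↥L) := inferInstance
  have hd : σ ∈ ((P : Subgroup ↥L).map L.subtype).map π := by
    let ρ : ↥L →* ↥(Subgroup.zpowers σ) := (π.comp L.subtype).codRestrict _ (fun y => y.2)
    have hρs : Function.Surjective ρ := by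
      rintro ⟨z, hz⟩
      obtain ⟨w, hw⟩ := hsurj z
      exact ⟨⟨w, show π w ∈ _ by rw [hw]; exact hz⟩, Subtype.ext hw⟩
    haveI : Finite A := Finite.of_surjective π hsurj
    have htop : ((P.mapSurjective hρs : Sylow l _) : Subgroup ↥(Subgroup.zpowers σ)) = ⊤ := by
      refine Subgroup.eq_top_of_card_eq _ ?_
      rw [Sylow.card_eq_multiplicity, Nat.card_zpowers, hσ,
        Nat.Prime.factorization_self (Fact.out : l.Prime), pow_one]
    have hmem : (⟨σ, Subgroup.mem_zpowers σ⟩ : ↥(Subgroup.zpowers σ)) ∈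
        ((P.mapSurjective hρs : Sylow l _) : Subgroup ↥(Subgroup.zpowers σ)) := htop ▸ Subgroup.mem_top _
    rw [Sylow.coe_mapSurjective] at hmem
    obtain ⟨y, hy, hyσ⟩ := hmem
    exact ⟨(y : H), ⟨y, hy, rfl⟩, congrArg Subtype.val hyσ⟩
  obtain ⟨d, hdP, hdσ⟩ := hd
  refine ⟨(P : Subgroup ↥L).map L.subtype, d, P.isPGroup'.map _, hdP, hdσ, fun τ k hk hστ => ?_⟩
  obtain ⟨t, ht⟩ := hsurj τ
  have hτn : τ ∈ Subgroup.normalizer (Subgroup.zpowers σ : Set A) := by
    rw [Subgroup.mem_normalizer_iff_map_conj_eq]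
    rw [MonoidHom.map_zpowers]
    show Subgroup.zpowers (τ * σ * τ⁻¹) = _
    rw [hστ]
    obtain ⟨m, hm⟩ := exists_pow_eq_self_of_coprime (x := σ) (n := k) (hσ ▸ hk)
    exact le_antisymm (Subgroup.zpowers_le.2 (Subgroup.pow_mem _ (Subgroup.mem_zpowers _) _))
      (Subgroup.zpowers_le.2 (Subgroup.mem_zpowers_iff.2 ⟨m, by rw [zpow_natCast]; exact hm⟩))
  have htn : t ∈ Subgroup.normalizer (L : Set H) := by
    rw [Subgroup.mem_normalizer_iff] at hτn ⊢
    intro y
    simp only [hL, Subgroup.mem_comap, map_mul, map_inv, ht]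
    exact hτn (π y)
  have hLn : ∀ y : ↥L, t * (y : H) * t⁻¹ ∈ L := fun y =>
    (Subgroup.mem_normalizer_iff.1 htn y).1 y.2
  let c : ↥L →* ↥L :=
    { toFun := fun y => ⟨t * y * t⁻¹, hLn y⟩
      map_one' := Subtype.ext (by simp)
      map_mul' := fun a b => Subtype.ext (by simp [mul_assoc]) }
  have hc : Function.Surjective c := fun y =>
    ⟨⟨t⁻¹ * y * t, (Subgroup.mem_normalizer_iff.1 htn _).2 (by simp [mul_assoc])⟩,
      Subtype.ext (by simp [c, mul_assoc])⟩
  obtain ⟨m, hm⟩ := MulAction.exists_smul_eq ↥L (P.mapSurjective (f := c) hc) P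
  obtain ⟨j, hj⟩ := Subgroup.mem_zpowers_iff.1 (show π (m : H) ∈ Subgroup.zpowers σ from m.2)
  refine ⟨(m : H) * t, j, ?_, by rw [map_mul, ← hj, ht]⟩
  rintro _ ⟨y, hy, rfl⟩
  refine ⟨m * c y * m⁻¹, ?_, ?_⟩
  · rw [← hm, Sylow.smul_def, Sylow.pointwise_smul_def]
    exact (Subgroup.mem_smul_pointwise_iff_exists _ _ _).2
      ⟨c y, (show c y ∈ (P : Subgroup ↥L).map c from ⟨y, hy, rfl⟩), rfl⟩
  · show (m : H) * (t * (y : H) * t⁻¹) * (m : H)⁻¹ = (m : H) * t * (y : H) * ((m : H) * t)⁻¹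
    group

/-- Fusion of an element of prime order lifts to a normalised `l`-subgroup of the preimage. -/
theorem exists_fusion_pair {H A : Type*} [Group H] [Finite H] [Group A] (π : H →* A)
    (hsurj : Function.Surjective π) {l : ℕ} [Fact l.Prime] {σ τ : A} (hσ : orderOf σ = l) {k : ℕ}
    (hk : k.Coprime l) (hστ : τ * σ * τ⁻¹ = σ ^ k) :
    ∃ (P : Subgroup H) (x d : H), IsPGroup l P ∧ (∀ a ∈ P, x * a * x⁻¹ ∈ P) ∧ d ∈ P ∧ π d = σ ∧
      π x * σ * (π x)⁻¹ = σ ^ k := by
  obtain ⟨P, d, hP, hd, hdσ, h⟩ := exists_frattini π hsurj hσ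
  obtain ⟨x, j, hx, hπx⟩ := h τ k hk hστ
  refine ⟨P, x, d, hP, hx, hd, hdσ, ?_⟩
  rw [hπx, show σ ^ j * τ * σ * (σ ^ j * τ)⁻¹ = σ ^ j * (τ * σ * τ⁻¹) * (σ ^ j)⁻¹ by group, hστ]
  group

/-- An element of order five inverted to its square in every alternating group of degree at least seven. -/
theorem exists_five {r : ℕ} (hr : 7 ≤ r) :
    ∃ σ τ : ↥(alternatingGroup (Fin r)), orderOf σ = 5 ∧ τ * σ * τ⁻¹ = σ ^ 2 := by
  haveI : Fact (Nat.Prime 5) := ⟨by norm_num⟩
  obtain ⟨s, t, hs1, ht1, hst, hs5, hs0⟩ : ∃ s t : Equiv.Perm (Fin 7), Equiv.Perm.sign s = 1 ∧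
      Equiv.Perm.sign t = 1 ∧ t * s * t⁻¹ = s ^ 2 ∧ s ^ 5 = 1 ∧ s ≠ 1 :=
    ⟨c[0, 1, 2, 3, 4], c[1, 2, 4, 3] * c[5, 6], by decide +kernel, by decide +kernel, by decide +kernel,
      by decide +kernel, by decide +kernel⟩
  let ι := Equiv.Perm.viaEmbeddingHom (Fin.castLEEmb hr)
  have hι : Function.Injective ι := Equiv.Perm.viaEmbeddingHom_injective _
  have hsg : ∀ p : Equiv.Perm (Fin 7), Equiv.Perm.sign p = 1 → ι p ∈ alternatingGroup (Fin r) :=
    fun p hp => by
      rw [Equiv.Perm.mem_alternatingGroup]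
      show Equiv.Perm.sign (Equiv.Perm.viaEmbedding p _) = 1
      rw [Equiv.Perm.viaEmbedding, Equiv.Perm.sign_extendDomain, hp]
  refine ⟨⟨ι s, hsg s hs1⟩, ⟨ι t, hsg t ht1⟩, ?_, Subtype.ext ?_⟩
  · rw [← Subgroup.orderOf_coe, orderOf_injective ι hι]
    exact orderOf_eq_prime hs5 hs0
  · simpa using congrArg ι hst

/-- No alternating section of degree at least seven when the fusion at five has exponent six. -/
theorem no_alt_seven {G : Type*} [Group G] [Finite G]
    (hfus : ∀ P : Subgroup G, IsPGroup 5 P → ∀ x : G, (∀ d ∈ P, x * d * x⁻¹ ∈ P) →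
      ∀ d ∈ P, Commute (x ^ 6) d)
    {r : ℕ} (H : Subgroup G) (π : ↥H →* ↥(alternatingGroup (Fin r))) (hsurj : Function.Surjective π) :
    r ≤ 6 := by
  by_contra hr
  push Not at hr
  haveI : Fact (Nat.Prime 5) := ⟨by norm_num⟩
  obtain ⟨σ, τ, hσ, hστ⟩ := exists_five (r := r) (by omega)
  obtain ⟨P, x, d, hP, hx, hd, hdσ, hconj⟩ :=
    exists_fusion_pair π hsurj hσ (k := 2) (by norm_num) hστ
  have hcom : Commute (x ^ 6) d := by
    have := hfus (P.map H.subtype) (hP.map _) (x : G)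
      (by rintro _ ⟨a, ha, rfl⟩; exact ⟨x * a * x⁻¹, hx a ha, rfl⟩) d ⟨d, hd, rfl⟩
    exact Subtype.ext this.eq
  have hk : ∀ k : ℕ, π x ^ k * σ * (π x ^ k)⁻¹ = σ ^ 2 ^ k := by
    intro k
    induction k with
    | zero => simp
    | succ k ih =>
      calc π x ^ (k + 1) * σ * (π x ^ (k + 1))⁻¹ = π x * (π x ^ k * σ * (π x ^ k)⁻¹) * (π x)⁻¹ := by
            rw [pow_succ']; group
        _ = (π x * σ * (π x)⁻¹) ^ 2 ^ k := by rw [ih, conj_pow]
        _ = σ ^ 2 ^ (k + 1) := by rw [hconj, ← pow_mul, pow_succ']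
  have h6 := hk 6
  have hc : Commute (π x ^ 6) σ := by
    rw [← hdσ, ← map_pow]; exact hcom.map π
  rw [hc.eq, mul_inv_cancel_right] at h6
  have hd5 : σ ^ 63 = 1 := by
    have : σ * σ ^ 63 = σ * 1 := by
      rw [mul_one, ← pow_succ']
      exact h6.symm
    exact mul_left_cancel this
  have := orderOf_dvd_of_pow_eq_one hd5
  rw [hσ] at this
  norm_num at this

/-- The squares of an abelian subgroup with few involutions have small index. -/
theorem card_le_four_mul_sq {G : Type*} [Group G] [Finite G] {M T : Subgroup G} (hMT : M ≤ T)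
    (hTc : ∀ a ∈ T, ∀ b ∈ T, Commute a b) (hT2 : Nat.card {t : G // t ∈ T ∧ t ^ 2 = 1} ≤ 4) :
    Nat.card M ≤ 4 * Nat.card ((fun a : G => a ^ 2) '' (M : Set G) : Set G) := by
  let f : ↥M →* G :=
    { toFun := fun a => (a : G) ^ 2
      map_one' := by simp
      map_mul' := fun a b => by
        simp only [Subgroup.coe_mul]
        exact (hTc a (hMT a.2) b (hMT b.2)).mul_pow 2 }
  have h1 := f.ker.card_mul_index
  rw [Subgroup.index_ker] at h1
  have h2 : Nat.card f.ker ≤ 4 := by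
    refine le_trans ?_ hT2
    refine Nat.card_le_card_of_injective
      (fun a => ⟨((a : ↥M) : G), hMT (a : ↥M).2, a.2⟩) fun a b h => ?_
    exact Subtype.ext (Subtype.ext (congrArg (fun y => y.1) h))
  have h3 : Nat.card f.range = Nat.card ((fun a : G => a ^ 2) '' (M : Set G) : Set G) :=
    Nat.card_congr (Equiv.setCongr (Set.ext fun y =>
      ⟨fun ⟨a, ha⟩ => ⟨a, a.2, ha⟩, fun ⟨a, ha, e⟩ => ⟨⟨a, ha⟩, e⟩⟩))
  rw [← h1, ← h3]
  exact Nat.mul_le_mul_right _ h2

/-- No section isomorphic to the alternating group of degree at least eight when a torus with at most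
four involutions carries all but a four-th of the 2-part of the order. -/
theorem no_alt_eight {G : Type*} [Group G] [Finite G] (T : Subgroup G)
    (hTc : ∀ a ∈ T, ∀ b ∈ T, Commute a b) (hT2 : Nat.card {t : G // t ∈ T ∧ t ^ 2 = 1} ≤ 4)
    (hpart : (Nat.card G).factorization 2 ≤ (Nat.card T).factorization 2 + 2)
    {r : ℕ} (H : Subgroup G) (π₀ : ↥H →* ↥(alternatingGroup (Fin r))) (hs₀ : Function.Surjective π₀) :
    r ≤ 7 := by
  by_contra hr
  push Not at hr
  classical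
  haveI : Fact (Nat.Prime 2) := ⟨Nat.prime_two⟩
  -- restrict to degree eight
  let ι := Equiv.Perm.viaEmbeddingHom (Fin.castLEEmb (show 8 ≤ r by omega))
  have hι : Function.Injective ι := Equiv.Perm.viaEmbeddingHom_injective _
  let ι' : ↥(alternatingGroup (Fin 8)) →* ↥(alternatingGroup (Fin r)) :=
    (ι.comp (alternatingGroup (Fin 8)).subtype).codRestrict _ fun p => by
      rw [Equiv.Perm.mem_alternatingGroup]
      show Equiv.Perm.sign (Equiv.Perm.viaEmbedding (p : Equiv.Perm (Fin 8)) _) = 1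
      rw [Equiv.Perm.viaEmbedding, Equiv.Perm.sign_extendDomain]
      exact p.2
  have hι' : Function.Injective ι' := fun a b h => Subtype.ext (hι (congrArg Subtype.val h))
  let K : Subgroup ↥H := ι'.range.comap π₀
  let π : ↥K →* ↥(alternatingGroup (Fin 8)) :=
    (MonoidHom.ofInjective hι').symm.toMonoidHom.comp ((π₀.comp K.subtype).codRestrict _ fun y => y.2)
  have hs : Function.Surjective π := by
    refine (MonoidHom.ofInjective hι').symm.surjective.comp ?_
    rintro ⟨z, hz⟩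
    obtain ⟨w, hw⟩ := hs₀ z
    exact ⟨⟨w, show π₀ w ∈ ι'.range by rw [hw]; exact hz⟩, Subtype.ext hw⟩
  let j : ↥K →* G := H.subtype.comp K.subtype
  have hj : Function.Injective j := H.subtype_injective.comp K.subtype_injective
  -- Sylow subgroups
  obtain ⟨P⟩ : Nonempty (Sylow 2 ↥K) := inferInstance
  obtain ⟨S0⟩ : Nonempty (Sylow 2 ↥T) := inferInstance
  obtain ⟨S, hS⟩ := (P.isPGroup'.map j).exists_le_sylow
  obtain ⟨S1, hS1⟩ := (S0.isPGroup'.map T.subtype).exists_le_sylow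
  obtain ⟨g, hg⟩ := MulAction.exists_smul_eq G S S1
  let c : ↥K →* G := (MulAut.conj g).toMonoidHom.comp j
  have hcinj : Function.Injective c := (MulAut.conj g).injective.comp hj
  have hPS : (P : Subgroup ↥K).map c ≤ (S1 : Subgroup G) := by
    rintro _ ⟨y, hy, rfl⟩
    rw [← hg]
    exact (Subgroup.mem_smul_pointwise_iff_exists _ _ _).2 ⟨j y, hS ⟨y, hy, rfl⟩, rfl⟩
  set R := (S0 : Subgroup ↥T).map T.subtype with hR
  have hidx : R.relIndex (S1 : Subgroup G) ≤ 4 := by
    have h := Subgroup.card_mul_index (R.subgroupOf (S1 : Subgroup G))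
    rw [Nat.card_congr (Subgroup.subgroupOfEquivOfLe hS1).toEquiv] at h
    have hRc : Nat.card R = 2 ^ (Nat.card T).factorization 2 := by
      rw [hR, Subgroup.card_subtype]; exact S0.card_eq_multiplicity
    rw [hRc, S1.card_eq_multiplicity] at h
    have hle := Nat.pow_le_pow_right (show 1 ≤ 2 by norm_num) hpart
    rw [← h, pow_add] at hle
    exact Nat.le_of_mul_le_mul_left hle (Nat.two_pow_pos _)
  set M0 := (P : Subgroup ↥K) ⊓ R.comap c with hM0
  have hM0T : M0.map c ≤ T := by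
    rintro _ ⟨y, hy, rfl⟩
    obtain ⟨z, -, hz⟩ := (show c y ∈ R from hy.2)
    exact hz ▸ z.2
  have hcardP : Nat.card ((P : Subgroup ↥K).map π) = 64 := by
    have h : ((P.mapSurjective hs : Sylow 2 _) : Subgroup ↥(alternatingGroup (Fin 8))) =
        (P : Subgroup ↥K).map π := Sylow.coe_mapSurjective _ _
    rw [← h, Sylow.card_eq_multiplicity, nat_card_alternatingGroup]
    rw [Nat.card_eq_fintype_card, Fintype.card_fin]
    have e : Nat.factorial 8 / 2 = 2 ^ 6 * 315 := by decide +kernel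
    rw [e, Nat.factorization_mul (by norm_num) (by norm_num), Finsupp.add_apply,
      Nat.Prime.factorization_pow Nat.prime_two, Finsupp.single_eq_same,
      Nat.factorization_eq_zero_of_not_dvd (by norm_num)]
    norm_num
  have hM16 : 16 ≤ Nat.card (M0.map π) := by
    have h1 : M0.relIndex (P : Subgroup ↥K) ≤ 4 := by
      rw [hM0, Subgroup.inf_relIndex_left, Subgroup.relIndex_comap]
      exact le_trans (Subgroup.relIndex_le_of_le_right hPS Subgroup.index_ne_zero_of_finite) hidx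
    have hle : M0 ≤ (P : Subgroup ↥K) := inf_le_left
    have h2 := Subgroup.relIndex_inf_mul_relIndex (H := π.ker) (K := M0) (L := (P : Subgroup ↥K))
    rw [inf_eq_left.2 hle, Subgroup.relIndex_ker] at h2
    have h3 := Subgroup.relIndex_dvd_of_le_left (P : Subgroup ↥K) (inf_le_left : π.ker ⊓ M0 ≤ π.ker)
    rw [Subgroup.relIndex_ker, hcardP, ← h2] at h3
    have hne : M0.relIndex (P : Subgroup ↥K) ≠ 0 := Subgroup.index_ne_zero_of_finite
    have h4 := Nat.le_of_dvd (Nat.mul_pos Nat.card_pos (Nat.pos_of_ne_zero hne)) h3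
    have h5 := Nat.mul_le_mul_left (Nat.card (M0.map π)) h1
    omega
  -- squares in the image
  have hcM : ∀ a ∈ M0, ∀ b ∈ M0, Commute a b := fun a ha b hb => hcinj (by
    rw [map_mul, map_mul]
    exact hTc _ (hM0T ⟨a, ha, rfl⟩) _ (hM0T ⟨b, hb, rfl⟩))
  have hM0sq : Nat.card M0 ≤ 4 * Nat.card ((fun a : ↥K => a ^ 2) '' (M0 : Set ↥K) : Set ↥K) := by
    have h := card_le_four_mul_sq hM0T hTc hT2
    rw [Subgroup.card_map_of_injective hcinj] at h
    refine h.trans (Nat.mul_le_mul_left _ (le_of_eq ?_))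
    rw [← Nat.card_image_of_injective hcinj ((fun a : ↥K => a ^ 2) '' (M0 : Set ↥K)), Set.image_image,
      Subgroup.coe_map, Set.image_image]
    simp only [map_pow]
  set M := M0.map π with hM
  have hMsq : Nat.card M ≤ 4 * Nat.card ((fun a => a ^ 2) '' (M : Set ↥(alternatingGroup (Fin 8))) :
      Set ↥(alternatingGroup (Fin 8))) := by
    let sq : ↥M0 →* ↥M0 :=
      { toFun := fun a => a ^ 2
        map_one' := one_pow 2
        map_mul' := fun a b => Commute.mul_pow (Subtype.ext (hcM a a.2 b b.2).eq) 2 }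
    let p : ↥M0 →* ↥M := (π.comp M0.subtype).codRestrict M fun a => ⟨a, a.2, rfl⟩
    have hp : Function.Surjective p := by
      rintro ⟨_, a, ha, rfl⟩; exact ⟨⟨a, ha⟩, rfl⟩
    have h1 : sq.range.index ≤ 4 := by
      have hc0 := sq.range.card_mul_index
      have e : Nat.card sq.range =
          Nat.card ((fun a : ↥K => a ^ 2) '' (M0 : Set ↥K) : Set ↥K) := by
        refine Eq.trans (Nat.card_image_of_injective M0.subtype_injective (sq.range : Set ↥M0)).symm ?_
        refine Nat.card_congr (Equiv.setCongr (Set.ext fun y => ?_))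
        constructor
        · rintro ⟨_, ⟨a, rfl⟩, rfl⟩; exact ⟨a, a.2, by simp [sq]⟩
        · rintro ⟨a, ha, rfl⟩; exact ⟨_, ⟨⟨a, ha⟩, rfl⟩, by simp [sq]⟩
      rw [← e] at hM0sq
      rw [← hc0, mul_comm 4] at hM0sq
      exact Nat.le_of_mul_le_mul_left hM0sq Nat.card_pos
    have h2 : (sq.range.map p).index ≤ 4 :=
      le_trans (Nat.le_of_dvd (Nat.pos_of_ne_zero Subgroup.index_ne_zero_of_finite)
        (Subgroup.index_map_dvd _ hp)) h1
    have h3 := (sq.range.map p).card_mul_index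
    rw [← h3, mul_comm 4]
    refine le_trans (Nat.mul_le_mul_left _ h2) (Nat.mul_le_mul_right _ ?_)
    refine le_trans (le_of_eq (Nat.card_image_of_injective M.subtype_injective
      ((sq.range.map p : Subgroup ↥M) : Set ↥M)).symm) ?_
    refine Nat.card_mono (Set.toFinite _) ?_
    rintro _ ⟨_, ⟨_, ⟨a, rfl⟩, rfl⟩, rfl⟩
    exact ⟨π (a : ↥K), ⟨a, a.2, rfl⟩, by simp only [← map_pow]; rfl⟩
  have htwo : Nat.card ((fun a => a ^ 2) '' (M : Set ↥(alternatingGroup (Fin 8))) :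
      Set ↥(alternatingGroup (Fin 8))) ≤ 2 := by
    have hcomm : ∀ a ∈ M, ∀ b ∈ M, Commute a b := by
      rintro _ ⟨a, ha, rfl⟩ _ ⟨b, hb, rfl⟩
      exact (hcM a ha b hb).map π
    have hp2 : ∀ a ∈ M, ∃ k, a ^ 2 ^ k = 1 := by
      rintro _ ⟨a, ha, rfl⟩
      obtain ⟨k, hk⟩ := P.isPGroup' ⟨a, ha.1⟩
      refine ⟨k, ?_⟩
      rw [← map_pow, show a ^ 2 ^ k = 1 from congrArg Subtype.val hk, map_one]
    rw [Nat.card_coe_set_eq]
    by_cases h : ∃ a ∈ M, a ^ 2 ≠ 1
    · obtain ⟨a, ha, ha1⟩ := h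
      refine le_trans (Set.ncard_le_ncard (t := {1, a ^ 2}) ?_ (Set.toFinite _)) ?_
      · rintro _ ⟨b, hb, rfl⟩
        by_cases hb1 : b ^ 2 = 1
        · exact Or.inl hb1
        · exact Or.inr (sq_eq_sq (hp2 a ha) ha1 hb1 (hcomm a ha b hb))
      · exact le_trans (Set.ncard_insert_le _ _) (by simp)
    · push Not at h
      refine le_trans (Set.ncard_le_ncard (t := {1}) ?_ (Set.toFinite _)) (by simp)
      rintro _ ⟨b, hb, rfl⟩
      exact h b hb
  omega

/-- A decomposition of the order bounds the multiplicity of a prime. -/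
theorem factorization_le {n t m l : ℕ} (hl : l.Prime) (h : n = t * m) (ht : t ≠ 0) {j : ℕ}
    (hm : ¬ l ^ (j + 1) ∣ m) : n.factorization l ≤ t.factorization l + j := by
  have hm0 : m ≠ 0 := fun e => hm (e ▸ dvd_zero _)
  rw [h, Nat.factorization_mul ht hm0, Finsupp.add_apply]
  refine Nat.add_le_add_left ?_ _
  by_contra hj
  push Not at hj
  exact hm ((hl.pow_dvd_iff_le_factorization hm0).2 hj)

/-- A subgroup whose order has the whole `l`-part contains a conjugate of every `l`-subgroup. -/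
theorem exists_conj_mem {G : Type*} [Group G] [Finite G] {l : ℕ} [Fact l.Prime] (T : Subgroup G)
    (hT : (Nat.card G).factorization l ≤ (Nat.card T).factorization l) (P : Subgroup G) (hP : IsPGroup l P) :
    ∃ g : G, ∀ d ∈ P, g * d * g⁻¹ ∈ T := by
  obtain ⟨S, hPS⟩ := hP.exists_le_sylow
  obtain ⟨S0⟩ : Nonempty (Sylow l ↥T) := inferInstance
  obtain ⟨S1, hS1⟩ := (S0.isPGroup'.map T.subtype).exists_le_sylow
  have heq : (S0 : Subgroup ↥T).map T.subtype = (S1 : Subgroup G) := by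
    refine Subgroup.eq_of_le_of_card_ge hS1 ?_
    rw [Subgroup.card_subtype, S1.card_eq_multiplicity, S0.card_eq_multiplicity]
    exact Nat.pow_le_pow_right (Fact.out : l.Prime).pos hT
  obtain ⟨g, hg⟩ := MulAction.exists_smul_eq G S S1
  refine ⟨g, fun d hd => Subgroup.map_subtype_le _ (heq.ge ?_)⟩
  rw [← hg]
  exact (Subgroup.mem_smul_pointwise_iff_exists _ _ _).2 ⟨d, hPS hd, rfl⟩

/-- Fusion of exponent six in a torus carrying the whole `l`-part passes to all `l`-subgroups. -/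
theorem fusion_six {G : Type*} [Group G] [Finite G] {l : ℕ} [Fact l.Prime] (T : Subgroup G)
    (hT : (Nat.card G).factorization l ≤ (Nat.card T).factorization l)
    (hfus : ∀ (y : G) (S : Set G), (∀ d ∈ S, d ∈ T) → (∀ d ∈ S, y * d * y⁻¹ ∈ T) →
      ∃ n : G, (∀ d ∈ S, n * d * n⁻¹ = y * d * y⁻¹) ∧ ∀ d ∈ S, Commute (n ^ 6) d) :
    ∀ P : Subgroup G, IsPGroup l P → ∀ x : G, (∀ d ∈ P, x * d * x⁻¹ ∈ P) →
      ∀ d ∈ P, Commute (x ^ 6) d := by
  intro P hP x hx
  obtain ⟨g, hg⟩ := exists_conj_mem T hT P hP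
  set y := g * x * g⁻¹ with hy
  set S : Set G := (fun d => g * d * g⁻¹) '' (P : Set G) with hS
  have hSy : ∀ d ∈ S, y * d * y⁻¹ ∈ S := by
    rintro _ ⟨d, hd, rfl⟩
    refine ⟨x * d * x⁻¹, hx d hd, ?_⟩
    simp only [hy]; group
  have hST : ∀ d ∈ S, d ∈ T := by rintro _ ⟨d, hd, rfl⟩; exact hg d hd
  obtain ⟨n, hn, hn6⟩ := hfus y S hST fun d hd => hST _ (hSy d hd)
  have hiter : ∀ j : ℕ, ∀ d ∈ S, n ^ j * d * (n ^ j)⁻¹ = y ^ j * d * (y ^ j)⁻¹ ∧
      y ^ j * d * (y ^ j)⁻¹ ∈ S := by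
    intro j
    induction j with
    | zero => intro d hd; simp [hd]
    | succ j ih =>
      intro d hd
      obtain ⟨h1, h2⟩ := ih d hd
      have e : ∀ a : G, a ^ (j + 1) * d * (a ^ (j + 1))⁻¹ = a * (a ^ j * d * (a ^ j)⁻¹) * a⁻¹ :=
        fun a => by rw [pow_succ']; group
      rw [e, e, h1]
      exact ⟨hn _ h2, hSy _ h2⟩
  intro d hd
  have hdS : g * d * g⁻¹ ∈ S := ⟨d, hd, rfl⟩
  obtain ⟨h1, -⟩ := hiter 6 _ hdS
  rw [(hn6 _ hdS).eq, mul_inv_cancel_right, eq_mul_inv_iff_mul_eq, hy, conj_pow, conj_mul, conj_mul] at h1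
  exact (mul_left_cancel (mul_right_cancel h1)).symm

/-- An alternating quotient gives a surjection. -/
theorem exists_surj {G A : Type*} [Group G] [Group A] (H : Subgroup G) (N : Subgroup ↥H) [N.Normal]
    (h : Nonempty (↥H ⧸ N ≃* A)) : ∃ π : ↥H →* A, Function.Surjective π :=
  h.elim fun e => ⟨e.toMonoidHom.comp (QuotientGroup.mk' N),
    e.surjective.comp (QuotientGroup.mk'_surjective N)⟩

/-- Sections pass along injective homomorphisms. -/
theorem exists_surj_map {G G' A : Type*} [Group G] [Group G'] [Group A] {f : G →* G'}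
    (hf : Function.Injective f) {H : Subgroup G} (π : ↥H →* A) (hπ : Function.Surjective π) :
    ∃ (H' : Subgroup G') (π' : ↥H' →* A), Function.Surjective π' :=
  ⟨H.map f, π.comp (Subgroup.equivMapOfInjective H f hf).symm.toMonoidHom,
    hπ.comp (Subgroup.equivMapOfInjective H f hf).symm.surjective⟩

end CfsgLib.AltSection
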