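/-
Torus data for the alternating sections of the triality groups.
-/
import Mathlib
import Cfsg.Agent.Lib.Chev.Twist.D4Torus.Cent
import Cfsg.Agent.Lib.Chev.Twist.TorusFusion
import Cfsg.Agent.Lib.Known.AltSection.Generic

set_option autoImplicit false
set_option maxRecDepth 20000

namespace CfsgLib.AltSection.D4

open Cfsg.Lie CfsgLib.Chev CfsgLib.Chev.TwD4 CfsgLib.Known.ChevSinger

universe v w

theorem ones_five : ¬ ((1 : ZMod 5) ^ 12 * ((1 + 1) * (1 ^ 3 + 1) * (1 ^ 8 + 1 ^ 4 + 1)) = 0) := by decide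

theorem ones_eight : ¬ ((1 : ZMod 8) ^ 12 * ((1 + 1) * (1 ^ 3 + 1) * (1 ^ 8 + 1 ^ 4 + 1)) = 0) := by decide

theorem img_six : ∀ a : Fin 12, ∀ s : Fin 24,
    Torus.img a.val (Torus.img a.val (Torus.img a.val (Torus.img a.val (Torus.img a.val
      (Torus.img a.val s.val))))) = s.val := by decide +kernel

variable {K : Type v} [Field K] [Fintype K] {q : ℕ} (C : Ctx K q)

/-- The torus of the twisted group. -/
abbrev tor (K : Type v) [Field K] (q : ℕ) : Subgroup ↥(twistedD4 K q) :=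
  (chevD4.diagonalSubgroup K ⊓ twistedD4 K q).subgroupOf (twistedD4 K q)

include C

theorem card_tor : Nat.card (tor K q) = (q - 1) ^ 2 * (q ^ 2 + q + 1) := by
  rw [Nat.card_congr (Subgroup.subgroupOfEquivOfLe inf_le_right).toEquiv, C.card_torus]

theorem card_eq : Nat.card ↥(twistedD4 K q) = Nat.card (tor K q) *
    (q ^ 12 * ((q + 1) * (q ^ 3 + 1) * (q ^ 8 + q ^ 4 + 1))) := by
  rw [card_tor C, C.card_twisted]
  obtain ⟨k, hk⟩ : ∃ k, q = k + 1 := ⟨q - 1, by have := C.q_gt; omega⟩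
  subst hk
  have a2 : (k + 1) ^ 2 = k * (k + 2) + 1 := by ring
  have a6 : (k + 1) ^ 6 =
      k * (((k + 1) ^ 2 + (k + 1) + 1) * ((k + 1) ^ 3 + 1)) + 1 := by ring
  conv_lhs => rw [a2, a6]
  simp only [Nat.add_sub_cancel]
  ring

theorem finite_group : Finite ↥(twistedD4 K q) := Nat.finite_of_card_ne_zero (by
  rw [card_eq C, card_tor C]
  have := C.q_gt
  refine Nat.mul_ne_zero (Nat.mul_ne_zero (pow_ne_zero _ (by omega)) (by positivity)) ?_
  positivity)

theorem tor_comm : ∀ a ∈ tor K q, ∀ b ∈ tor K q, Commute a b := by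
  intro a ha b hb
  exact Subtype.ext (C.sys.commute_diag (Subgroup.mem_subgroupOf.1 ha).1
    (Subgroup.mem_subgroupOf.1 hb).1).eq

theorem vec_eq_one {u w : Kˣ} (h : hT chevD4 (C.vec u w) = hT chevD4 (fun _ => 1)) : u = 1 ∧ w = 1 := by
  obtain ⟨e0, e1, e2, e3⟩ := hT_eq.1 h
  simp only [Ctx.vec, div_one] at e0 e1 e2 e3
  have hw1 : w = 1 := by
    have : w * w * w * 1 = w * w * w * w := by
      calc w * w * w * 1 = (u * u) * (C.fu u * C.fu u) * (C.fu (C.fu u) * C.fu (C.fu u)) := by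
            rw [mul_one, ← e0, ← e2, ← e3]
        _ = (u * C.fu u * C.fu (C.fu u)) * (u * C.fu u * C.fu (C.fu u)) := by
            simp [mul_comm, mul_left_comm, mul_assoc]
        _ = w * w * w * w := by rw [← e1]; simp [mul_assoc]
    exact (mul_left_cancel this).symm
  rw [hw1] at e0 e1
  have hfu := C.fu_of_sq e0.symm
  rw [hfu, hfu, ← e0, one_mul, one_mul] at e1
  exact ⟨e1.symm, hw1⟩

theorem tor_invol : Nat.card {t : ↥(twistedD4 K q) // t ∈ tor K q ∧ t ^ 2 = 1} ≤ 4 := by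
  classical
  let R := {u : Kˣ // u ^ 2 = 1}
  have hR : Nat.card R ≤ 2 := by
    have h : Set.ncard ({u : Kˣ | u ^ 2 = 1}) ≤ Set.ncard ({1, -1} : Set Kˣ) := by
      refine Set.ncard_le_ncard (fun u hu => ?_) (Set.toFinite _)
      have h1 : u * u = 1 := by rw [← sq]; exact hu
      rcases Units.inv_eq_self_iff u |>.1 (inv_eq_of_mul_eq_one_right h1) with rfl | rfl <;> simp
    rw [show Nat.card R = Set.ncard ({u : Kˣ | u ^ 2 = 1}) from Nat.card_coe_set_eq _]
    exact h.trans ((Set.ncard_insert_le _ _).trans (by simp))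
  have hex : ∀ t : {t : ↥(twistedD4 K q) // t ∈ tor K q ∧ t ^ 2 = 1}, ∃ p : R × R,
      ((t : ↥(twistedD4 K q)) : GL chevD4.Idx K) = hT chevD4 (C.vec p.1.1 p.2.1) := by
    rintro ⟨t, ht, ht2⟩
    obtain ⟨a, b, -, hab⟩ := C.exists_vec (Subgroup.mem_subgroupOf.1 ht).1 (C.sys.le_fix t.2)
    have h2 : hT chevD4 (C.vec (a * a) (b * b)) = hT chevD4 (fun _ => 1) := by
      have e : hT chevD4 (C.vec (a * a) (b * b)) = hT chevD4 (fun i => C.vec a b i * C.vec a b i) :=
        DataD4.facts.hT_congr fun i hi => by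
          have hi4 : i < 4 := hi
          interval_cases i <;> simp [Ctx.vec]
      rw [e, DataD4.facts.hT_mul, ← hab, ← Subgroup.coe_mul, ← sq, ht2, Subgroup.coe_one,
        DataD4.facts.hT_one]
    obtain ⟨ha, hb⟩ := vec_eq_one C h2
    exact ⟨(⟨a, (sq a).trans ha⟩, ⟨b, (sq b).trans hb⟩), hab⟩
  choose f hf using hex
  haveI : Finite R := Subtype.finite
  refine (Nat.card_le_card_of_injective f fun t t' e => ?_).trans ?_
  · exact Subtype.ext (Subtype.ext ((hf t).trans (by rw [hf t', e])))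
  · rw [Nat.card_prod]
    exact Nat.mul_le_mul hR hR

theorem tor_fusion (y : ↥(twistedD4 K q)) (S : Set ↥(twistedD4 K q))
    (hS : ∀ d ∈ S, d ∈ tor K q) (hS' : ∀ d ∈ S, y * d * y⁻¹ ∈ tor K q) :
    ∃ n : ↥(twistedD4 K q), (∀ d ∈ S, n * d * n⁻¹ = y * d * y⁻¹) ∧
      ∀ d ∈ S, Commute (n ^ 6) d := by
  have hF := DataD4.facts
  obtain ⟨n, hnG, hn, hnd⟩ := C.sys.torus_fusion y.2
    (S := Subtype.val '' S) (by rintro _ ⟨d, hd, rfl⟩; exact (Subgroup.mem_subgroupOf.1 (hS d hd)).1)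
    (by rintro _ ⟨d, hd, rfl⟩; exact (Subgroup.mem_subgroupOf.1 (hS' d hd)).1)
  refine ⟨⟨n, hnG⟩, fun d hd => Subtype.ext (hnd _ ⟨d, hd, rfl⟩), fun d hd => ?_⟩
  obtain ⟨l, k', hk', hl⟩ := hF.exists_nW hn
  have hp : PermAct n (sW chevD4 l) := by
    have := hF.permAct_mul (hF.permAct_nW (F := K) l) (hF.permAct_diagonal hk')
    rwa [mul_one, ← hl] at this
  obtain ⟨a, ha⟩ := Torus.exists_img C ⟨l, rfl⟩ (C.sig.wfix_of_fixed hn hp (C.sys.le_fix hnG))
  have h6 : sW chevD4 l ^ 6 = 1 := by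
    refine Equiv.ext fun s => Fin.ext ?_
    simp only [pow_succ, pow_zero, one_mul, Equiv.Perm.mul_apply, Equiv.Perm.one_apply, ha]
    exact img_six a ⟨s.val, s.isLt⟩
  have hd6 : n ^ 6 ∈ chevD4.diagonalSubgroup K := by
    have h1 : hF.weylHom (F := K) ((⟨n, hn⟩ : ↥(chevD4.monomialSubgroup K)) ^ 6) = 1 := by
      rw [map_pow, hF.weylHom_eq (g := ⟨n, hn⟩) hp, h6]
    rw [← MonoidHom.mem_ker, hF.weylHom_ker, Subgroup.mem_subgroupOf] at h1
    exact h1
  refine Subtype.ext ?_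
  simp only [Subgroup.coe_mul, Subgroup.coe_pow]
  exact (C.sys.commute_diag hd6 (Subgroup.mem_subgroupOf.1 (hS d hd)).1).eq

theorem bound_six (h5 : q % 5 = 1) {r : ℕ} (H : Subgroup ↥(twistedD4 K q))
    (π : ↥H →* ↥(alternatingGroup (Fin r))) (hs : Function.Surjective π) : r ≤ 6 := by
  haveI := finite_group C
  haveI : Fact (Nat.Prime 5) := ⟨by norm_num⟩
  refine no_alt_seven (fusion_six (tor K q) ?_ (tor_fusion C)) H π hs
  refine (factorization_le (by norm_num) (card_eq C) Nat.card_pos.ne' (j := 0) ?_).trans (le_refl _)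
  rw [zero_add, pow_one, ← ZMod.natCast_eq_zero_iff]
  have hq : (q : ZMod 5) = 1 := by rw [← ZMod.natCast_mod, h5, Nat.cast_one]
  push_cast
  rw [hq]
  exact ones_five

theorem bound_seven (h4 : q % 8 = 1) {r : ℕ} (H : Subgroup ↥(twistedD4 K q))
    (π : ↥H →* ↥(alternatingGroup (Fin r))) (hs : Function.Surjective π) : r ≤ 7 := by
  haveI := finite_group C
  refine no_alt_eight (tor K q) (tor_comm C) (tor_invol C) ?_ H π hs
  refine factorization_le Nat.prime_two (card_eq C) Nat.card_pos.ne' (j := 2) ?_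
  rw [show (2 : ℕ) ^ (2 + 1) = 8 by norm_num, ← ZMod.natCast_eq_zero_iff]
  have hq : (q : ZMod 8) = 1 := by rw [← ZMod.natCast_mod, h4, Nat.cast_one]
  push_cast
  rw [hq]
  exact ones_eight

/-- The triality groups embed over extension fields with a compatible twist. -/
theorem extG_mem_twisted {K' : Type w} [Field K'] [Fintype K'] {Q : ℕ} (C' : Ctx K' Q) (ι : K →+* K')
    (h1 : ∀ t : K, (ι t) ^ Q = ι (t ^ q)) {x : GL chevD4.Idx K} (hx : x ∈ twistedD4 K q) :
    extG chevD4 ι x ∈ twistedD4 K' Q := by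
  rw [C.gen_eq] at hx
  refine (Subgroup.closure_le (K := (twistedD4 K' Q).comap (extG chevD4 ι))).2 ?_ hx
  rintro _ ⟨w, hw, rfl⟩
  rw [SetLike.mem_coe, Subgroup.mem_comap]
  have hmap : ∀ L : List (ℕ × K), (∀ p ∈ L, p.1 < chevD4.nroots) →
      extG chevD4 ι (wU chevD4 L) = wU chevD4 (L.map fun p => (p.1, ι p.2)) := by
    intro L hL
    induction L with
    | nil => simp [wU]
    | cons p L ih =>
      rw [List.map_cons, wU_cons, wU_cons, map_mul, extG_xU ι DataD4.facts (hL p List.mem_cons_self),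
        ih fun p' hp' => hL p' (List.mem_cons_of_mem _ hp')]
  rw [hmap w (C.gen_fixed w hw).2]
  refine C'.mem_gen ?_
  rcases hw with ⟨t, ht, r, hr, rfl⟩ | ⟨t, rs, hrs, rfl⟩
  · exact Or.inl ⟨ι t, by rw [h1, ht], r, hr, rfl⟩
  · refine Or.inr ⟨ι t, rs, hrs, ?_⟩
    have h2 : (ι t) ^ (Q ^ 2) = ι (t ^ (q ^ 2)) := by
      rw [sq Q, pow_mul, h1, h1, ← pow_mul, sq q]
    simp [h1, h2]

end CfsgLib.AltSection.D4
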