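/-
A checked enumeration of a Weyl group by packed permutations of the roots.
-/
import Mathlib
import Cfsg.Agent.Lib.Chev.Coxeter
import Cfsg.Agent.Lib.Chev.Table

set_option autoImplicit false

namespace CfsgLib.AltSection.Enum

open Cfsg.Lie CfsgLib.Chev CfsgLib.Chev.Table

variable {D : ChevalleyDatum} {co : ℕ → ℕ → ℤ}

/-- The generator rows agree with the reflections. -/
def chkGen (T : Tab) (gs : Tree) : Bool :=
  allBelow T.rank fun j => allBelow T.nroots fun s => Nat.beq (slot (gs.get j) s) (T.refl j s)

/-- The first row is the identity. -/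
def chkOne (T : Tab) (rows : Tree) : Bool :=
  allBelow T.nroots fun s => Nat.beq (slot (rows.get 0) s) s

/-- The rows between two bounds are closed under left multiplication by the generators. -/
def chkStep (T : Tab) (gs rows nx : Tree) (N lo n : ℕ) : Bool :=
  allBelow n fun k => allBelow T.rank fun j =>
    Nat.blt (slot (nx.get (lo + k)) j) N && allBelow T.nroots fun s =>
      Nat.beq (slot (gs.get j) (slot (rows.get (lo + k)) s))
        (slot (rows.get (slot (nx.get (lo + k)) j)) s)

/-- Iteration of a packed permutation. -/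
def pw (r m s : ℕ) : ℕ := Nat.rec s (fun _ x => slot r x) m

variable {T : Tab} (hA : T.chkArrays D = true) (hC : T.chkChain D = true) (hF : Facts D co)
include hA hC hF

theorem exists_entry {gs rows nx : Tree} {N : ℕ} (hg : chkGen T gs = true)
    (h0 : chkOne T rows = true) (hN : 0 < N)
    (hstep : ∀ i < N, ∃ lo n, lo ≤ i ∧ i < lo + n ∧ chkStep T gs rows nx N lo n = true)
    (l : List (Fin D.rank)) :
    ∃ i < N, ∀ (m : ℕ) (s : Fin D.nroots), ((sW D l ^ m) s).val = pw (rows.get i) m s.val := by
  obtain ⟨i, hi, h⟩ : ∃ i < N, ∀ s : Fin D.nroots, (sW D l s).val = slot (rows.get i) s.val := by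
    have hn := nroots_eq hA (D := D)
    induction l with
    | nil =>
      exact ⟨0, hN, fun s => (Nat.eq_of_beq_eq_true (allBelow_spec h0 s.val (hn ▸ s.isLt))).symm⟩
    | cons j l ih =>
      obtain ⟨i, hi, he⟩ := ih
      obtain ⟨lo, n, hlo, hlt, hc⟩ := hstep i hi
      have hj : j.val < T.rank := rank_eq hA (D := D) ▸ j.isLt
      have h := allBelow_spec (allBelow_spec hc (i - lo) (by omega)) j.val hj
      simp only [Bool.and_eq_true, blt_iff, show lo + (i - lo) = i by omega] at h
      refine ⟨_, h.1, fun s => ?_⟩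
      rw [← Nat.eq_of_beq_eq_true (allBelow_spec h.2 s.val (hn ▸ s.isLt)), ← he,
        Nat.eq_of_beq_eq_true (allBelow_spec (allBelow_spec hg j.val hj) _ (hn ▸ (sW D l s).isLt)),
        sW_cons, Equiv.Perm.mul_apply, hF.sP_val, reflect_eq hA hC j.isLt (sW D l s).isLt]
  refine ⟨i, hi, fun m => ?_⟩
  induction m with
  | zero => intro s; rfl
  | succ m ih =>
    intro s
    rw [pow_succ', Equiv.Perm.mul_apply, h, ih]
    rfl

end CfsgLib.AltSection.Enum
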