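/-
The orders of the elements of the Weyl group of type F4.
-/
import Cfsg.Agent.Lib.Chev.Data.F4
import Cfsg.Agent.Lib.Known.AltSection.Enum
import Cfsg.Agent.Lib.Known.ChevSinger.Adjoint.Classes
import Cfsg.Agent.Lib.Known.AltSection.F4Data

set_option autoImplicit false
set_option maxRecDepth 100000

namespace CfsgLib.AltSection.F4

open Cfsg.Lie CfsgLib.Chev CfsgLib.Chev.Table CfsgLib.AltSection.Enum

theorem chk_gen : chkGen DataF4.tab gs = true := by decide +kernel
theorem chk_one : chkOne DataF4.tab rows = true := by decide +kernel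
theorem chk_step0 : chkStep DataF4.tab gs rows nx 1152 0 384 = true := by decide +kernel
theorem chk_step1 : chkStep DataF4.tab gs rows nx 1152 384 384 = true := by decide +kernel
theorem chk_step2 : chkStep DataF4.tab gs rows nx 1152 768 384 = true := by decide +kernel

/-- Order dividing eight or six, or a sixth power equal to the negation. -/
def cond (r : ℕ) : Bool :=
  (allBelow 4 fun q => Nat.beq (pw r 8 (DataF4.tab.smp q)) (DataF4.tab.smp q)) ||
  (allBelow 4 fun q => Nat.beq (pw r 6 (DataF4.tab.smp q)) (DataF4.tab.smp q)) ||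
  (allBelow 48 fun s => Nat.beq (pw r 6 s) (47 - s))

theorem chk_pow : (allBelow 1152 fun i => cond (rows.get i)) = true := by decide +kernel

theorem rank_eq : DataF4.tab.rank = 4 ∧ chevF4.nroots = 48 := by decide +kernel

theorem neg_val : ∀ s : Fin 48, chevF4.neg s.val = 47 - s.val := by decide +kernel

theorem weyl_cases (l : List (Fin chevF4.rank)) :
    sW chevF4 l ^ 8 = 1 ∨ sW chevF4 l ^ 6 = 1 ∨
      ∀ s : Fin chevF4.nroots, ((sW chevF4 l ^ 6) s).val = chevF4.neg s.val := by
  have hA := DataF4.chk_arrays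
  have hF := DataF4.facts
  obtain ⟨i, hi, he⟩ := exists_entry hA DataF4.chk_chain hF chk_gen chk_one (by norm_num)
    (nx := nx) (N := 1152) (fun i hi => by
      by_cases h1 : i < 384
      · exact ⟨0, 384, Nat.zero_le _, by omega, chk_step0⟩
      · by_cases h2 : i < 768
        · exact ⟨384, 384, by omega, by omega, chk_step1⟩
        · exact ⟨768, 384, by omega, by omega, chk_step2⟩) l
  have hsimp : ∀ q : Fin chevF4.rank, (hF.simpleFin q).val = DataF4.tab.smp q.val := fun q =>
    simple_eq hA q.isLt
  have hq : ∀ q : Fin chevF4.rank, q.val < 4 := fun q => q.isLt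
  have key : ∀ m, (∀ q : Fin chevF4.rank, (sW chevF4 l ^ m) (hF.simpleFin q) = hF.simpleFin q) →
      sW chevF4 l ^ m = 1 := fun m hm => by
    have e : ∀ k, sW chevF4 ((List.replicate k l).flatten) = sW chevF4 l ^ k := fun k => by
      induction k with
      | zero => rfl
      | succ k ih => rw [List.replicate_succ, List.flatten_cons, sW_append, ih, pow_succ']
    rw [← e, ← sW_nil (D := chevF4)]
    exact CfsgLib.Known.ChevSinger.sW_ext hF fun q => by rw [e, hm, sW_nil]; rfl
  have h := allBelow_spec chk_pow i hi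
  simp only [cond, Bool.or_eq_true] at h
  rcases h with (h | h) | h
  · exact Or.inl (key 8 fun q => Fin.ext (by
      rw [he, hsimp]; exact Nat.eq_of_beq_eq_true (allBelow_spec h q.val (hq q))))
  · exact Or.inr (Or.inl (key 6 fun q => Fin.ext (by
      rw [he, hsimp]; exact Nat.eq_of_beq_eq_true (allBelow_spec h q.val (hq q)))))
  · refine Or.inr (Or.inr fun s => ?_)
    have hs : s.val < 48 := s.isLt.trans_eq rank_eq.2
    rw [he, Nat.eq_of_beq_eq_true (allBelow_spec h s.val hs)]
    exact (neg_val ⟨s.val, hs⟩).symm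

theorem weyl_pow (l : List (Fin chevF4.rank)) : sW chevF4 l ^ 24 = 1 := by
  rcases weyl_cases l with h | h | h
  · rw [show 24 = 8 * 3 from rfl, pow_mul, h, one_pow]
  · rw [show 24 = 6 * 4 from rfl, pow_mul, h, one_pow]
  · have h2 : sW chevF4 l ^ 6 * sW chevF4 l ^ 6 = 1 := by
      refine Equiv.ext fun s => Fin.ext ?_
      rw [Equiv.Perm.mul_apply, h, h, Equiv.Perm.one_apply, DataF4.facts.neg_neg s.isLt]
    rw [show 24 = 6 + 6 + (6 + 6) from rfl, pow_add, pow_add, h2, mul_one]

end CfsgLib.AltSection.F4
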