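/-
Iterated fusion in a torus and the lifting of commuting pairs of fused elements.
-/
import Mathlib
import Cfsg.Agent.Lib.Known.AltSection.Generic

set_option autoImplicit false

namespace CfsgLib.AltSection

open scoped Pointwise

/-- A monomial fusing a normalised set iterates. -/
theorem iterate_fusion {G : Type*} [Group G] {y n : G} {S : Set G}
    (hS : ∀ d ∈ S, y * d * y⁻¹ ∈ S) (hn : ∀ d ∈ S, n * d * n⁻¹ = y * d * y⁻¹) :
    ∀ j : ℕ, ∀ d ∈ S, n ^ j * d * (n ^ j)⁻¹ = y ^ j * d * (y ^ j)⁻¹ := by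
  suffices h : ∀ j : ℕ, ∀ d ∈ S, n ^ j * d * (n ^ j)⁻¹ = y ^ j * d * (y ^ j)⁻¹ ∧
      y ^ j * d * (y ^ j)⁻¹ ∈ S from fun j d hd => (h j d hd).1
  intro j
  induction j with
  | zero => intro d hd; simp [hd]
  | succ j ih =>
    intro d hd
    obtain ⟨h1, h2⟩ := ih d hd
    have e : ∀ a : G, a ^ (j + 1) * d * (a ^ (j + 1))⁻¹ = a * (a ^ j * d * (a ^ j)⁻¹) * a⁻¹ :=
      fun a => by rw [pow_succ']; group
    rw [e, e, h1]
    exact ⟨hn _ h2, hS _ h2⟩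

/-- Conjugation iterates on a power. -/
theorem conj_iterate {A : Type*} [Group A] {x σ : A} {k : ℕ} (h : x * σ * x⁻¹ = σ ^ k) :
    ∀ j : ℕ, x ^ j * σ * (x ^ j)⁻¹ = σ ^ k ^ j := by
  intro j
  induction j with
  | zero => simp
  | succ j ih =>
    calc x ^ (j + 1) * σ * (x ^ (j + 1))⁻¹ = x * (x ^ j * σ * (x ^ j)⁻¹) * x⁻¹ := by
          rw [pow_succ']; group
      _ = (x * σ * x⁻¹) ^ k ^ j := by rw [ih, conj_pow]
      _ = σ ^ k ^ (j + 1) := by rw [h, ← pow_mul, pow_succ']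

/-- The exponent of a fused element divides `k ^ j - 1` once the `j`-th power centralises it. -/
theorem pow_sub_one {A : Type*} [Group A] {x σ : A} {k j : ℕ} (hk : 0 < k) (h : x * σ * x⁻¹ = σ ^ k)
    (hc : Commute (x ^ j) σ) : orderOf σ ∣ k ^ j - 1 := by
  have h1 := conj_iterate h j
  rw [hc.eq, mul_inv_cancel_right] at h1
  refine orderOf_dvd_of_pow_eq_one ?_
  have h2 : σ ^ (k ^ j - 1) * σ = 1 * σ := by
    rw [← pow_succ, Nat.sub_add_cancel (Nat.one_le_pow _ _ hk), one_mul, ← h1]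
  exact mul_right_cancel h2

/-- The exponent of a fused element divides `k ^ j + 1` once the `j`-th power inverts it. -/
theorem pow_add_one {A : Type*} [Group A] {x σ : A} {k j : ℕ} (h : x * σ * x⁻¹ = σ ^ k)
    (hc : x ^ j * σ * (x ^ j)⁻¹ = σ⁻¹) : orderOf σ ∣ k ^ j + 1 := by
  rw [conj_iterate h j] at hc
  refine orderOf_dvd_of_pow_eq_one ?_
  rw [pow_succ, hc, inv_mul_cancel]

/-- A fusion of exponent prime to `l` is trivial on the abelian `l`-subgroups normalised by an `l`-element. -/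
theorem commute_of_coprime {G : Type*} [Group G] {x d : G} {e m : ℕ} (h : Commute (x ^ m) d)
    (hx : x ^ e = 1) (hcop : Nat.Coprime m e) : Commute x d := by
  obtain ⟨k, hk⟩ := exists_pow_eq_self_of_coprime (x := x) (n := m)
    (hcop.coprime_dvd_right (orderOf_dvd_of_pow_eq_one hx))
  exact hk ▸ h.pow_left k

/-- Two commuting fused elements of prime orders lift to normalised subgroups. -/
theorem exists_two {H A : Type*} [Group H] [Finite H] [Group A] (π : H →* A)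
    (hsurj : Function.Surjective π) {l m : ℕ} [Fact l.Prime] [Fact m.Prime] (hlm : l ≠ m)
    {σ ρ τ : A} (hσ : orderOf σ = l) (hρ : orderOf ρ = m) (hcom : Commute σ ρ) {k i : ℕ}
    (hk : k.Coprime l) (hi : i.Coprime m) (hστ : τ * σ * τ⁻¹ = σ ^ k) (hρτ : τ * ρ * τ⁻¹ = ρ ^ i) :
    ∃ (P Q : Subgroup H) (x d e : H), IsPGroup l P ∧ IsPGroup m Q ∧
      (∀ a ∈ P, x * a * x⁻¹ ∈ P) ∧ (∀ a ∈ Q, x * a * x⁻¹ ∈ Q) ∧
      (∀ b ∈ Q, ∀ a ∈ P, b * a * b⁻¹ ∈ P) ∧ d ∈ P ∧ π d = σ ∧ e ∈ Q ∧ π e = ρ ∧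
      π x * σ * (π x)⁻¹ = σ ^ k ∧ π x * ρ * (π x)⁻¹ = ρ ^ i := by
  obtain ⟨P, d, hP, hd, hdσ, hfr⟩ := exists_frattini π hsurj hσ
  obtain ⟨x₀, j, hx₀, hπx₀⟩ := hfr τ k hk hστ
  obtain ⟨b₀, j', hb₀, hπb₀⟩ := hfr ρ 1 (Nat.coprime_one_left _) (by
    rw [pow_one, ← hcom.eq, mul_inv_cancel_right])
  let M : Subgroup H := Subgroup.normalizer (P : Set H)
  have hmem : ∀ y : H, (∀ a ∈ P, y * a * y⁻¹ ∈ P) → y ∈ M := fun y hy => by
    refine (Subgroup.mem_normalizer_iff).2 fun a => ⟨hy a, fun ha => ?_⟩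
    let c : ↥P → ↥P := fun a => ⟨y * a * y⁻¹, hy a a.2⟩
    have hc : Function.Injective c := fun a b e => by
      simpa [c] using congrArg Subtype.val e
    obtain ⟨a', ha'⟩ := (Finite.injective_iff_surjective.1 hc) ⟨_, ha⟩
    have e : (a' : H) = a := by simpa [c] using congrArg Subtype.val ha'
    exact e ▸ a'.2
  -- the image of the normaliser
  let π' : ↥M →* ↥((π.comp M.subtype).range) := (π.comp M.subtype).rangeRestrict
  have hρM : ρ ∈ (π.comp M.subtype).range := by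
    obtain ⟨t, ht⟩ : ∃ t : ℕ, (ρ ^ l) ^ t = ρ :=
      exists_pow_eq_self_of_coprime (by
        rw [hρ]; exact (Nat.coprime_primes (Fact.out : l.Prime) (Fact.out : m.Prime)).2 hlm)
    refine ⟨(⟨b₀, hmem _ hb₀⟩ : ↥M) ^ (l * t), ?_⟩
    rw [map_pow, MonoidHom.comp_apply, Subgroup.coe_subtype, hπb₀, pow_mul,
      ((hcom.zpow_left j').mul_pow l), ← zpow_natCast (σ ^ j') l, ← zpow_mul, mul_comm j' (l : ℤ),
      zpow_mul, zpow_natCast, ← hσ, pow_orderOf_eq_one, one_zpow, one_mul, hσ, ht]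
  have hxM : π x₀ ∈ (π.comp M.subtype).range := ⟨⟨x₀, hmem _ hx₀⟩, rfl⟩
  have hρ' : orderOf (⟨ρ, hρM⟩ : ↥((π.comp M.subtype).range)) = m := by
    rw [← Subgroup.orderOf_coe]; exact hρ
  have hx₀ρ : π x₀ * ρ * (π x₀)⁻¹ = ρ ^ i := by
    rw [hπx₀, show σ ^ j * τ * ρ * (σ ^ j * τ)⁻¹ = σ ^ j * (τ * ρ * τ⁻¹) * (σ ^ j)⁻¹ by group, hρτ,
      ((hcom.zpow_left j).pow_right i).eq, mul_inv_cancel_right]
  obtain ⟨Q, e, hQ, he, heρ, hfr'⟩ := exists_frattini π'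
    (π.comp M.subtype).rangeRestrict_surjective hρ'
  obtain ⟨x, j'', hx, hπx⟩ := hfr' ⟨π x₀, hxM⟩ i hi (Subtype.ext hx₀ρ)
  have hπx' : π (x : H) = ρ ^ j'' * π x₀ := by
    simpa [π'] using congrArg Subtype.val hπx
  refine ⟨P, Q.map M.subtype, x, d, e, hP, hQ.map _, ?_, ?_, ?_, hd, hdσ, ⟨e, he, rfl⟩,
    congrArg Subtype.val heρ, ?_, ?_⟩
  · exact fun a ha => (Subgroup.mem_normalizer_iff.1 x.2 a).1 ha
  · rintro _ ⟨a, ha, rfl⟩; exact ⟨x * a * x⁻¹, hx a ha, rfl⟩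
  · rintro _ ⟨b, -, rfl⟩ a ha
    exact (Subgroup.mem_normalizer_iff.1 b.2 a).1 ha
  · rw [hπx', hπx₀, show ρ ^ j'' * (σ ^ j * τ) * σ * (ρ ^ j'' * (σ ^ j * τ))⁻¹ =
      ρ ^ j'' * (σ ^ j * (τ * σ * τ⁻¹) * (σ ^ j)⁻¹) * (ρ ^ j'')⁻¹ by group, hστ,
      (((Commute.refl σ).zpow_left j).pow_right k).eq, mul_inv_cancel_right,
      ((hcom.symm.zpow_left j'').pow_right k).eq, mul_inv_cancel_right]
  · rw [hπx', show ρ ^ j'' * π x₀ * ρ * (ρ ^ j'' * π x₀)⁻¹ =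
      ρ ^ j'' * (π x₀ * ρ * (π x₀)⁻¹) * (ρ ^ j'')⁻¹ by group, hx₀ρ,
      (((Commute.refl ρ).zpow_left j'').pow_right i).eq, mul_inv_cancel_right]

/-- Commuting subgroups of orders prime to each other go into the torus together. -/
theorem exists_conj_two {G : Type*} [Group G] [Finite G] {l m : ℕ} [Fact l.Prime] [Fact m.Prime]
    (T : Subgroup G) (hTc : ∀ a ∈ T, ∀ b ∈ T, Commute a b)
    (hl : (Nat.card G).factorization l ≤ (Nat.card T).factorization l)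
    (hm : (Nat.card G).factorization m ≤ (Nat.card T).factorization m)
    (P Q : Subgroup G) (hP : IsPGroup l P) (hQ : IsPGroup m Q)
    (hcom : ∀ b ∈ Q, ∀ a ∈ P, Commute b a) :
    ∃ g : G, (∀ a ∈ P, g * a * g⁻¹ ∈ T) ∧ ∀ b ∈ Q, g * b * g⁻¹ ∈ T := by
  obtain ⟨g, hg⟩ := exists_conj_mem T hl P hP
  let C : Subgroup G := Subgroup.centralizer ((fun a => g * a * g⁻¹) '' (P : Set G))
  have hTC : T ≤ C := by
    intro t ht
    rw [Subgroup.mem_centralizer_iff]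
    rintro _ ⟨a, ha, rfl⟩
    exact (hTc _ (hg a ha) t ht).eq
  let Q' : Subgroup G := Q.map (MulAut.conj g).toMonoidHom
  have hQC : Q' ≤ C := by
    rintro _ ⟨b, hb, rfl⟩
    rw [Subgroup.mem_centralizer_iff]
    rintro _ ⟨a, ha, rfl⟩
    show g * a * g⁻¹ * (g * b * g⁻¹) = g * b * g⁻¹ * (g * a * g⁻¹)
    rw [conj_mul, conj_mul, (hcom b hb a ha).eq]
  have hle : (Nat.card C).factorization m ≤ (Nat.card (T.subgroupOf C)).factorization m := by
    rw [Nat.card_congr (Subgroup.subgroupOfEquivOfLe hTC).toEquiv]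
    exact le_trans ((Nat.factorization_le_iff_dvd Nat.card_pos.ne' Nat.card_pos.ne').2
      C.card_subgroup_dvd_card m) hm
  obtain ⟨c, hc⟩ := exists_conj_mem (T.subgroupOf C) hle (Q'.subgroupOf C)
    ((hQ.map _).of_equiv (Subgroup.subgroupOfEquivOfLe hQC).symm)
  refine ⟨c * g, fun a ha => ?_, fun b hb => ?_⟩
  · have h := (Subgroup.mem_centralizer_iff.1 c.2 _ ⟨a, ha, rfl⟩ :)
    rw [show (c : G) * g * a * ((c : G) * g)⁻¹ = (c : G) * (g * a * g⁻¹) * (c : G)⁻¹ by group,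
      ← h, mul_inv_cancel_right]
    exact hg a ha
  · have hb' : g * b * g⁻¹ ∈ Q' := ⟨b, hb, rfl⟩
    have h := hc ⟨_, hQC hb'⟩ hb'
    rw [Subgroup.mem_subgroupOf] at h
    simpa [mul_assoc] using h

/-- An element of order eleven conjugate to its cube in every alternating group of degree at least eleven. -/
theorem exists_eleven {r : ℕ} (hr : 11 ≤ r) :
    ∃ σ τ : ↥(alternatingGroup (Fin r)), orderOf σ = 11 ∧ τ * σ * τ⁻¹ = σ ^ 3 := by
  haveI : Fact (Nat.Prime 11) := ⟨by norm_num⟩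
  obtain ⟨s, t, hs1, ht1, hst, hs5, hs0⟩ : ∃ s t : Equiv.Perm (Fin 11), Equiv.Perm.sign s = 1 ∧
      Equiv.Perm.sign t = 1 ∧ t * s * t⁻¹ = s ^ 3 ∧ s ^ 11 = 1 ∧ s ≠ 1 :=
    ⟨c[0, 1, 2, 3, 4, 5, 6, 7, 8, 9, 10], c[1, 3, 9, 5, 4] * c[2, 6, 7, 10, 8], by decide +kernel,
      by decide +kernel, by decide +kernel, by decide +kernel, by decide +kernel⟩
  let ι := Equiv.Perm.viaEmbeddingHom (Fin.castLEEmb hr)
  have hι : Function.Injective ι := Equiv.Perm.viaEmbeddingHom_injective _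
  have hsg : ∀ p : Equiv.Perm (Fin 11), Equiv.Perm.sign p = 1 → ι p ∈ alternatingGroup (Fin r) :=
    fun p hp => by
      rw [Equiv.Perm.mem_alternatingGroup]
      show Equiv.Perm.sign (Equiv.Perm.viaEmbedding p _) = 1
      rw [Equiv.Perm.viaEmbedding, Equiv.Perm.sign_extendDomain, hp]
  refine ⟨⟨ι s, hsg s hs1⟩, ⟨ι t, hsg t ht1⟩, ?_, Subtype.ext ?_⟩
  · rw [← Subgroup.orderOf_coe, orderOf_injective ι hι]
    exact orderOf_eq_prime hs5 hs0
  · simpa using congrArg ι hst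

/-- Commuting elements of orders seven and five, fused together, in every alternating group of degree
at least twelve. -/
theorem exists_seven_five {r : ℕ} (hr : 12 ≤ r) :
    ∃ σ ρ τ : ↥(alternatingGroup (Fin r)), orderOf σ = 7 ∧ orderOf ρ = 5 ∧ Commute σ ρ ∧
      τ * σ * τ⁻¹ = σ ^ 3 ∧ τ * ρ * τ⁻¹ = ρ ^ 2 := by
  haveI : Fact (Nat.Prime 5) := ⟨by norm_num⟩
  haveI : Fact (Nat.Prime 7) := ⟨by norm_num⟩
  obtain ⟨s, u, t, hs1, hu1, ht1, hsu, hst, hut, hs7, hs0, hu5, hu0⟩ :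
      ∃ s u t : Equiv.Perm (Fin 12), Equiv.Perm.sign s = 1 ∧ Equiv.Perm.sign u = 1 ∧
      Equiv.Perm.sign t = 1 ∧ s * u = u * s ∧ t * s * t⁻¹ = s ^ 3 ∧ t * u * t⁻¹ = u ^ 2 ∧
      s ^ 7 = 1 ∧ s ≠ 1 ∧ u ^ 5 = 1 ∧ u ≠ 1 :=
    ⟨c[0, 1, 2, 3, 4, 5, 6], c[7, 8, 9, 10, 11], c[1, 3, 2, 6, 4, 5] * c[8, 9, 11, 10],
      by decide +kernel, by decide +kernel, by decide +kernel, by decide +kernel, by decide +kernel,
      by decide +kernel, by decide +kernel, by decide +kernel, by decide +kernel, by decide +kernel⟩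
  let ι := Equiv.Perm.viaEmbeddingHom (Fin.castLEEmb hr)
  have hι : Function.Injective ι := Equiv.Perm.viaEmbeddingHom_injective _
  have hsg : ∀ p : Equiv.Perm (Fin 12), Equiv.Perm.sign p = 1 → ι p ∈ alternatingGroup (Fin r) :=
    fun p hp => by
      rw [Equiv.Perm.mem_alternatingGroup]
      show Equiv.Perm.sign (Equiv.Perm.viaEmbedding p _) = 1
      rw [Equiv.Perm.viaEmbedding, Equiv.Perm.sign_extendDomain, hp]
  refine ⟨⟨ι s, hsg s hs1⟩, ⟨ι u, hsg u hu1⟩, ⟨ι t, hsg t ht1⟩, ?_, ?_, Subtype.ext ?_,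
    Subtype.ext ?_, Subtype.ext ?_⟩
  · rw [← Subgroup.orderOf_coe, orderOf_injective ι hι]
    exact orderOf_eq_prime hs7 hs0
  · rw [← Subgroup.orderOf_coe, orderOf_injective ι hι]
    exact orderOf_eq_prime hu5 hu0
  · simpa using congrArg ι hsu
  · simpa using congrArg ι hst
  · simpa using congrArg ι hut

end CfsgLib.AltSection
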