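/-
Fusion in the split torus of a Chevalley group.
-/
import Mathlib
import Cfsg.Agent.Lib.Chev.Invol.Pair
import Cfsg.Agent.Lib.Chev.Twist.Torus
import Cfsg.Agent.Lib.Known.ChevSinger.Bruhat
import Cfsg.Agent.Lib.Known.AltSection.Generic

set_option autoImplicit false

namespace CfsgLib.AltSection.Split

open Cfsg.Lie CfsgLib.Chev CfsgLib.Known.ChevSinger

universe v

variable {D : ChevalleyDatum} {co : ℕ → ℕ → ℤ} (hF : Facts D co) {F : Type v} [Field F]
include hF

/-- The split torus. -/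
abbrev tor (D : ChevalleyDatum) (F : Type v) [Field F] : Subgroup ↥(D.group F) :=
  (D.diagonalSubgroup F).subgroupOf (D.group F)

theorem tor_comm : ∀ a ∈ tor D F, ∀ b ∈ tor D F, Commute a b := by
  intro a ha b hb
  obtain ⟨c, hc⟩ := hF.mem_diagonal_iff.1 (show (a : GL D.Idx F) ∈ _ from ha)
  obtain ⟨d, hd⟩ := hF.mem_diagonal_iff.1 (show (b : GL D.Idx F) ∈ _ from hb)
  refine Subtype.ext ?_
  simp only [Subgroup.coe_mul]
  rw [hc, hd, hT, hT]
  exact dU_commute _ _

set_option maxHeartbeats 400000 in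
theorem tor_fusion {hC : CommF.{v} D} (y : ↥(D.group F)) (S : Set ↥(D.group F))
    (hS : ∀ d ∈ S, d ∈ tor D F) (hS' : ∀ d ∈ S, y * d * y⁻¹ ∈ tor D F) :
    ∃ (n : ↥(D.group F)) (l : List (Fin D.rank)), (∀ d ∈ S, n * d * n⁻¹ = y * d * y⁻¹) ∧
      (n : GL D.Idx F) ∈ D.monomialSubgroup F ∧ PermAct (n : GL D.Idx F) (sW D l) := by
  obtain ⟨b, hb, n, hn, w, hw, u, hu, hy⟩ := hF.bruhat_exists hC y.2
  obtain ⟨u1, hu1, k, hk, rfl⟩ := hF.mem_borel_iff.1 hb
  have hkn : k * n ∈ D.monomialSubgroup F :=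
    Subgroup.mul_mem _ (hF.diag_le_monomial hk) hn
  obtain ⟨l, k', hk', hl⟩ := hF.exists_nW hkn
  refine ⟨⟨k * n, hF.monomial_le_group hkn⟩, l, fun d hd => Subtype.ext ?_, hkn, ?_⟩
  · simp only [Subgroup.coe_mul, Subgroup.coe_inv]
    obtain ⟨D', hDd⟩ : ∃ D', D' = (d : GL D.Idx F) := ⟨_, rfl⟩
    obtain ⟨e, hee⟩ : ∃ e, e = u1 * k * n * u * D' * (u1 * k * n * u)⁻¹ := ⟨_, rfl⟩
    have he : e ∈ D.diagonalSubgroup F := by
      have := hS' d hd
      rw [Subgroup.mem_subgroupOf] at this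
      simp only [Subgroup.coe_mul, Subgroup.coe_inv, hy, ← hDd, ← hee] at this
      exact this
    rw [hy, ← hDd, ← hee]
    have hdD : D' ∈ D.diagonalSubgroup F := hDd ▸ hS d hd
    have hnd : n * D' * n⁻¹ ∈ D.diagonalSubgroup F := monomial_conj_diag hF hn hdD
    have heu : e * u1 * e⁻¹ ∈ rootClosure D F (D.nroots / 2 ≤ ·) :=
      (Subgroup.mem_normalizer_iff.1 (hF.diagonal_le_normalizer _ he) u1).1 hu1
    have hdu : D'⁻¹ * u * D' ∈ rootClosure D F (PosFlip w) := by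
      have h := (Subgroup.mem_normalizer_iff.1
        (hF.diagonal_le_normalizer _ (Subgroup.inv_mem _ hdD)) u).1 hu
      rwa [inv_inv] at h
    have hb1 : u1 * (k * (n * D' * n⁻¹)) ∈ D.borelSubgroup F :=
      Subgroup.mul_mem _ (hF.pos_le_borel hu1) (hF.diagonal_le_borel (Subgroup.mul_mem _ hk hnd))
    have hb2 : e * u1 * e⁻¹ * (e * k) ∈ D.borelSubgroup F :=
      Subgroup.mul_mem _ (hF.pos_le_borel heu) (hF.diagonal_le_borel (Subgroup.mul_mem _ he hk))
    have heq : u1 * (k * (n * D' * n⁻¹)) * n * (D'⁻¹ * u * D') = e * u1 * e⁻¹ * (e * k) * n * u := by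
      calc _ = u1 * k * n * u * D' := by group
        _ = e * (u1 * k * n * u) := by rw [hee]; group
        _ = _ := by group
    obtain ⟨hbe, -⟩ := hF.bruhat_unique hw hb1 hb2 hdu hu heq
    have e1 : (e * u1 * e⁻¹)⁻¹ * u1 = e * k * (k * (n * D' * n⁻¹))⁻¹ := by
      rw [eq_mul_inv_iff_mul_eq, mul_assoc, hbe]
      group
    have e2 : (e * u1 * e⁻¹)⁻¹ * u1 ∈ rootClosure D F (D.nroots / 2 ≤ ·) ⊓
        D.diagonalSubgroup F :=
      ⟨Subgroup.mul_mem _ (Subgroup.inv_mem _ heu) hu1, e1 ▸ Subgroup.mul_mem _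
        (Subgroup.mul_mem _ he hk) (Subgroup.inv_mem _ (Subgroup.mul_mem _ hk hnd))⟩
    rw [hF.pos_inf_diagonal, Subgroup.mem_bot] at e2
    rw [e2, eq_comm, mul_inv_eq_one] at e1
    calc k * n * D' * (k * n)⁻¹ = k * (n * D' * n⁻¹) * k⁻¹ := by group
      _ = e := by rw [← e1]; group
  · have := hF.permAct_mul (hF.permAct_nW (F := F) l) (hF.permAct_diagonal hk')
    rwa [mul_one, ← hl] at this

/-- A monomial element whose power is trivial in the Weyl group centralises the torus. -/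
theorem commute_of_pow {n : ↥(D.group F)} {l : List (Fin D.rank)}
    (hn : (n : GL D.Idx F) ∈ D.monomialSubgroup F) (hp : PermAct (n : GL D.Idx F) (sW D l)) {j : ℕ}
    (hj : sW D l ^ j = 1) {d : ↥(D.group F)} (hd : d ∈ tor D F) : Commute (n ^ j) d := by
  refine tor_comm hF _ ?_ _ hd
  rw [Subgroup.mem_subgroupOf, Subgroup.coe_pow]
  have h1 : hF.weylHom (F := F) ((⟨(n : GL D.Idx F), hn⟩ : ↥(D.monomialSubgroup F)) ^ j) = 1 := by
    rw [map_pow, hF.weylHom_eq (g := ⟨(n : GL D.Idx F), hn⟩) hp, hj]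
  rw [← MonoidHom.mem_ker, hF.weylHom_ker, Subgroup.mem_subgroupOf] at h1
  exact h1

/-- A monomial element whose power negates all roots inverts the torus. -/
theorem inv_of_pow {n : ↥(D.group F)} {l : List (Fin D.rank)}
    (hn : (n : GL D.Idx F) ∈ D.monomialSubgroup F) (hp : PermAct (n : GL D.Idx F) (sW D l)) {j : ℕ}
    (hj : ∀ s : Fin D.nroots, ((sW D l ^ j) s).val = D.neg s.val) {d : ↥(D.group F)}
    (hd : d ∈ tor D F) : n ^ j * d * (n ^ j)⁻¹ = d⁻¹ := by
  have hpj : PermAct ((n : GL D.Idx F) ^ j) (sW D l ^ j) := by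
    obtain ⟨σ, hσ⟩ := hF.exists_permAct (Subgroup.pow_mem _ hn j)
    have h1 := hF.weylHom_eq (g := (⟨(n : GL D.Idx F), hn⟩ : ↥(D.monomialSubgroup F)) ^ j)
      (σ := σ) (by simpa using hσ)
    rw [map_pow, hF.weylHom_eq (g := ⟨(n : GL D.Idx F), hn⟩) hp] at h1
    rwa [h1]
  obtain ⟨c, hc⟩ := hF.mem_diagonal_iff.1 (show (d : GL D.Idx F) ∈ _ from hd)
  have hinv : (d : GL D.Idx F)⁻¹ = hT D (fun i => (c i)⁻¹) := by
    rw [hc]
    refine inv_eq_of_mul_eq_one_right ?_
    rw [← hF.hT_mul]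
    simp only [mul_inv_cancel]
    exact hF.hT_one
  refine Subtype.ext ?_
  simp only [Subgroup.coe_mul, Subgroup.coe_inv, Subgroup.coe_pow]
  rw [hinv, hc, mul_inv_eq_iff_eq_mul]
  refine monomial_conj_hT hF (Subgroup.pow_mem _ hn j) hpj fun s => ?_
  rw [hj, CfsgLib.Chev.Invol.chiT_neg hF _ s.isLt]
  simp only [chiT, inv_zpow, Finset.prod_inv_distrib, inv_inv]

/-- The order of the group is that of the torus times a product of geometric sums. -/
theorem factorization_le_tor [Finite F] {degs : List ℕ} (hlen : degs.length = D.rank)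
    (hG : Nat.card ↥(D.group F) =
      Nat.card F ^ (D.nroots / 2) * (degs.map fun k => Nat.card F ^ k - 1).prod)
    (hH : Nat.card ↥(D.diagonalSubgroup F) = (Nat.card F - 1) ^ D.rank)
    {r : ℕ} [hr : Fact r.Prime] (hrQ : r ∣ Nat.card F - 1) (hrk : ∀ k ∈ degs, ¬ r ∣ k) :
    Finite ↥(D.group F) ∧
      (Nat.card ↥(D.group F)).factorization r ≤ (Nat.card (tor D F)).factorization r := by
  set Q := Nat.card F with hQdef
  have hQ : 1 < Q := Finite.one_lt_card
  have hT : Nat.card (tor D F) = (Q - 1) ^ D.rank := by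
    rw [Nat.card_congr (Subgroup.subgroupOfEquivOfLe hF.diagonal_le_group).toEquiv, hH]
  obtain ⟨m, hm, hmr⟩ : ∃ m, Nat.card ↥(D.group F) = (Q - 1) ^ D.rank * m ∧ ¬ r ∣ m := by
    refine ⟨Q ^ (D.nroots / 2) * (degs.map fun k => ∑ i ∈ Finset.range k, Q ^ i).prod, ?_, ?_⟩
    · rw [hG, ← hlen]
      clear hG hH hrk hlen hT
      induction degs with
      | nil => simp
      | cons k L ih =>
        rw [List.map_cons, List.prod_cons, List.map_cons, List.prod_cons, List.length_cons,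
          pow_succ, ← geom_sum_mul_of_one_le (by omega) k]
        calc Q ^ (D.nroots / 2) * ((∑ i ∈ Finset.range k, Q ^ i) * (Q - 1) *
              (L.map fun k => Q ^ k - 1).prod)
            = (∑ i ∈ Finset.range k, Q ^ i) * (Q - 1) *
              (Q ^ (D.nroots / 2) * (L.map fun k => Q ^ k - 1).prod) := by ring
          _ = _ := by rw [ih]; ring
    · have hQ1 : ((Q : ℕ) : ZMod r) = 1 := by
        have h0 : ((Q - 1 : ℕ) : ZMod r) = 0 := (ZMod.natCast_eq_zero_iff _ _).2 hrQ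
        rwa [Nat.cast_sub hQ.le, Nat.cast_one, sub_eq_zero] at h0
      rw [← ZMod.natCast_eq_zero_iff _ r, Nat.cast_mul, Nat.cast_pow, hQ1, one_pow, one_mul,
        Nat.cast_list_prod, List.map_map]
      refine List.prod_ne_zero fun h0 => ?_
      obtain ⟨k, hk, hk0⟩ := List.mem_map.1 h0
      simp only [Function.comp_apply, Nat.cast_sum, Nat.cast_pow, hQ1, one_pow, Finset.sum_const,
        Finset.card_range, nsmul_one] at hk0
      exact hrk k hk ((ZMod.natCast_eq_zero_iff _ _).1 hk0)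
  have hne : (Q - 1) ^ D.rank ≠ 0 := pow_ne_zero _ (by omega)
  refine ⟨Nat.finite_of_card_ne_zero (hm ▸ Nat.mul_ne_zero hne fun h0 => hmr (h0 ▸ dvd_zero r)), ?_⟩
  rw [hT]
  exact CfsgLib.AltSection.factorization_le hr.out hm hne (j := 0) (by simpa using hmr)

end CfsgLib.AltSection.Split
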