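/-
The alternating sections of F4 through the fusion of the split torus at five, seven and eleven.
-/
import Mathlib
import Cfsg.Agent.Lib.Chev.Orders
import Cfsg.Agent.Lib.Known.AltSection.Fusion
import Cfsg.Agent.Lib.Known.AltSection.Split
import Cfsg.Agent.Lib.Known.AltSection.F4Weyl

set_option autoImplicit false
set_option maxRecDepth 10000

namespace CfsgLib.AltSection.F4

open Cfsg.Lie CfsgLib.Chev CfsgLib.AltSection

universe v

variable {F : Type v} [Field F] [Finite F]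

theorem order_tor {r : ℕ} [Fact r.Prime] (hr : r = 5 ∨ r = 7 ∨ r = 11) (hQ : r ∣ Nat.card F - 1) :
    Finite ↥(chevF4.group F) ∧
      (Nat.card ↥(chevF4.group F)).factorization r ≤ (Nat.card (Split.tor chevF4 F)).factorization r := by
  refine Split.factorization_le_tor DataF4.facts (degs := [2, 6, 8, 12]) rfl ?_ ?_ hQ ?_
  · rw [← one_mul (Nat.card ↥(chevF4.group F)), order_F4, show chevF4.nroots / 2 = 24 by decide +kernel]
    simp [mul_assoc]
  · rw [← one_mul (Nat.card ↥(chevF4.diagonalSubgroup F)), card_diag_F4]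
  · rcases hr with rfl | rfl | rfl <;> decide

/-- No alternating section of degree eleven when eleven divides `q - 1`. -/
theorem bound_ten (h11 : 11 ∣ Nat.card F - 1) {r : ℕ} (H : Subgroup ↥(chevF4.group F))
    (π : ↥H →* ↥(alternatingGroup (Fin r))) (hs : Function.Surjective π) : r ≤ 10 := by
  by_contra hr
  haveI : Fact (Nat.Prime 11) := ⟨by norm_num⟩
  obtain ⟨hfin, hfac⟩ := order_tor (F := F) (r := 11) (by simp) h11
  obtain ⟨σ, τ, hσ, hστ⟩ := exists_eleven (r := r) (by omega)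
  obtain ⟨P, x, d, hP, hx, hd, hdσ, hconj⟩ :=
    exists_fusion_pair π hs hσ (k := 3) (by norm_num) hστ
  obtain ⟨g, hg⟩ := exists_conj_mem (Split.tor chevF4 F) hfac (P.map H.subtype) (hP.map _)
  set y := g * (x : ↥(chevF4.group F)) * g⁻¹ with hy
  set S : Set ↥(chevF4.group F) := (fun a : ↥H => g * (a : ↥(chevF4.group F)) * g⁻¹) '' (P : Set ↥H)
    with hS
  have hST : ∀ a ∈ S, a ∈ Split.tor chevF4 F := by
    rintro _ ⟨a, ha, rfl⟩; exact hg _ ⟨a, ha, rfl⟩
  have hSy : ∀ a ∈ S, y * a * y⁻¹ ∈ S := by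
    rintro _ ⟨a, ha, rfl⟩
    refine ⟨x * a * x⁻¹, hx a ha, ?_⟩
    simp only [hy, Subgroup.coe_mul, Subgroup.coe_inv]; group
  obtain ⟨n, l, hn, hnm, hnl⟩ := Split.tor_fusion DataF4.facts (hC := good_F4.comm) y S hST
    fun a ha => hST _ (hSy a ha)
  have hdS : g * (d : ↥(chevF4.group F)) * g⁻¹ ∈ S := ⟨d, hd, rfl⟩
  have h := iterate_fusion hSy hn 24 _ hdS
  rw [(Split.commute_of_pow DataF4.facts hnm hnl (weyl_pow l) (hST _ hdS)).eq, mul_inv_cancel_right,
    eq_mul_inv_iff_mul_eq, hy, conj_pow, conj_mul, conj_mul] at h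
  have hc : Commute (x ^ 24) d :=
    Subtype.ext (by simpa using (mul_left_cancel (mul_right_cancel h)).symm)
  have hc' : Commute (π x ^ 24) σ := by rw [← hdσ, ← map_pow]; exact hc.map π
  have h1 := pow_sub_one (by norm_num : 0 < 3) hconj hc'
  rw [hσ] at h1
  norm_num at h1

/-- No alternating section of degree twelve when five and seven divide `q - 1`. -/
theorem bound_eleven (h5 : 5 ∣ Nat.card F - 1) (h7 : 7 ∣ Nat.card F - 1) {r : ℕ}
    (H : Subgroup ↥(chevF4.group F)) (π : ↥H →* ↥(alternatingGroup (Fin r)))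
    (hs : Function.Surjective π) : r ≤ 11 := by
  by_contra hr
  haveI : Fact (Nat.Prime 5) := ⟨by norm_num⟩
  haveI : Fact (Nat.Prime 7) := ⟨by norm_num⟩
  obtain ⟨hfin, hf7⟩ := order_tor (F := F) (r := 7) (by simp) h7
  obtain ⟨-, hf5⟩ := order_tor (F := F) (r := 5) (by simp) h5
  have hTc := Split.tor_comm DataF4.facts (F := F)
  obtain ⟨σ, ρ, τ, hσ, hρ, hcom, hστ, hρτ⟩ := exists_seven_five (r := r) (by omega)
  obtain ⟨P, Q, x, d, e, hP, hQ, hxP, hxQ, hQP, hd, hdσ, he, heρ, hcσ, hcρ⟩ :=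
    exists_two π hs (l := 7) (m := 5) (by norm_num) hσ hρ hcom (k := 3) (i := 2) (by norm_num)
      (by norm_num) hστ hρτ
  -- the five-part centralises the seven-part
  have hQPc : ∀ b ∈ Q, ∀ a ∈ P, Commute b a := by
    intro b hb a ha
    obtain ⟨g, hg⟩ := exists_conj_mem (Split.tor chevF4 F) hf7 (P.map H.subtype) (hP.map _)
    set y := g * (b : ↥(chevF4.group F)) * g⁻¹ with hy
    set S : Set ↥(chevF4.group F) :=
      (fun a : ↥H => g * (a : ↥(chevF4.group F)) * g⁻¹) '' (P : Set ↥H) with hS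
    have hST : ∀ a ∈ S, a ∈ Split.tor chevF4 F := by
      rintro _ ⟨a, ha, rfl⟩; exact hg _ ⟨a, ha, rfl⟩
    have hSy : ∀ a ∈ S, y * a * y⁻¹ ∈ S := by
      rintro _ ⟨a, ha, rfl⟩
      refine ⟨b * a * b⁻¹, hQP b hb a ha, ?_⟩
      simp only [hy, Subgroup.coe_mul, Subgroup.coe_inv]; group
    obtain ⟨n, l, hn, hnm, hnl⟩ := Split.tor_fusion DataF4.facts (hC := good_F4.comm) y S hST
      fun a ha => hST _ (hSy a ha)
    have haS : g * (a : ↥(chevF4.group F)) * g⁻¹ ∈ S := ⟨a, ha, rfl⟩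
    have h := iterate_fusion hSy hn 24 _ haS
    rw [(Split.commute_of_pow DataF4.facts hnm hnl (weyl_pow l) (hST _ haS)).eq, mul_inv_cancel_right,
      eq_mul_inv_iff_mul_eq, hy, conj_pow, conj_mul, conj_mul] at h
    have hc : Commute (b ^ 24) a :=
      Subtype.ext (by simpa using (mul_left_cancel (mul_right_cancel h)).symm)
    obtain ⟨k, hk⟩ := hQ ⟨b, hb⟩
    exact commute_of_coprime hc (e := 5 ^ k) (congrArg Subtype.val hk :)
      (Nat.Coprime.pow_right k (by norm_num))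
  obtain ⟨g, hgP, hgQ⟩ := exists_conj_two (Split.tor chevF4 F) hTc hf7 hf5 (P.map H.subtype)
    (Q.map H.subtype) (hP.map _) (hQ.map _) (by
      rintro _ ⟨b, hb, rfl⟩ _ ⟨a, ha, rfl⟩; exact (hQPc b hb a ha).map H.subtype)
  set y := g * (x : ↥(chevF4.group F)) * g⁻¹ with hy
  set S : Set ↥(chevF4.group F) :=
    (fun a : ↥H => g * (a : ↥(chevF4.group F)) * g⁻¹) '' ((P : Set ↥H) ∪ Q) with hS
  have hST : ∀ a ∈ S, a ∈ Split.tor chevF4 F := by
    rintro _ ⟨a, ha, rfl⟩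
    rcases ha with ha | ha
    exacts [hgP _ ⟨a, ha, rfl⟩, hgQ _ ⟨a, ha, rfl⟩]
  have hSy : ∀ a ∈ S, y * a * y⁻¹ ∈ S := by
    rintro _ ⟨a, ha, rfl⟩
    refine ⟨x * a * x⁻¹, ha.imp (hxP a) (hxQ a), ?_⟩
    simp only [hy, Subgroup.coe_mul, Subgroup.coe_inv]; group
  obtain ⟨n, l, hn, hnm, hnl⟩ := Split.tor_fusion DataF4.facts (hC := good_F4.comm) y S hST
    fun a ha => hST _ (hSy a ha)
  have hcomm : ∀ j, sW chevF4 l ^ j = 1 → ∀ a : ↥H, a ∈ (P : Set ↥H) ∪ Q →
      Commute (π x ^ j) (π a) := by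
    intro j hj a ha
    have haS : g * (a : ↥(chevF4.group F)) * g⁻¹ ∈ S := ⟨a, ha, rfl⟩
    have h := iterate_fusion hSy hn j _ haS
    rw [(Split.commute_of_pow DataF4.facts hnm hnl hj (hST _ haS)).eq, mul_inv_cancel_right,
      eq_mul_inv_iff_mul_eq, hy, conj_pow, conj_mul, conj_mul] at h
    have hc : Commute (x ^ j) a :=
      Subtype.ext (by simpa using (mul_left_cancel (mul_right_cancel h)).symm)
    rw [← map_pow]; exact hc.map π
  rcases weyl_cases l with h | h | h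
  · have h1 := pow_sub_one (by norm_num : 0 < 3) hcσ (hdσ ▸ hcomm 8 h d (Or.inl hd))
    rw [hσ] at h1
    norm_num at h1
  · have h1 := pow_sub_one (by norm_num : 0 < 2) hcρ (heρ ▸ hcomm 6 h e (Or.inr he))
    rw [hρ] at h1
    norm_num at h1
  · have hdS : g * (d : ↥(chevF4.group F)) * g⁻¹ ∈ S := ⟨d, Or.inl hd, rfl⟩
    have h2 := iterate_fusion hSy hn 6 _ hdS
    rw [Split.inv_of_pow DataF4.facts hnm hnl h (hST _ hdS)] at h2
    have h3 : ((x : ↥(chevF4.group F)) ^ 6 * d * ((x : ↥(chevF4.group F)) ^ 6)⁻¹) =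
        (d : ↥(chevF4.group F))⁻¹ := by
      refine (mul_right_inj g).1 ((mul_left_inj g⁻¹).1 ?_)
      rw [hy, conj_pow] at h2
      calc g * ((x : ↥(chevF4.group F)) ^ 6 * d * ((x : ↥(chevF4.group F)) ^ 6)⁻¹) * g⁻¹
          = g * (x : ↥(chevF4.group F)) ^ 6 * g⁻¹ * (g * d * g⁻¹) *
            (g * (x : ↥(chevF4.group F)) ^ 6 * g⁻¹)⁻¹ := by group
        _ = (g * d * g⁻¹)⁻¹ := h2.symm
        _ = g * (d : ↥(chevF4.group F))⁻¹ * g⁻¹ := by group
    have h4 : x ^ 6 * d * (x ^ 6)⁻¹ = d⁻¹ := Subtype.ext (by simpa using h3)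
    have h5' : π x ^ 6 * σ * (π x ^ 6)⁻¹ = σ⁻¹ := by
      simpa [hdσ] using congrArg π h4
    have h1 := pow_add_one hcσ h5'
    rw [hσ] at h1
    norm_num at h1

end CfsgLib.AltSection.F4
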