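/-
Torus data for the alternating sections of G2.
-/
import Mathlib
import Cfsg.Agent.Lib.Chev.Orders
import Cfsg.Agent.Lib.Chev.Invol.G2
import Cfsg.Agent.Lib.Chev.Twist.Torus
import Cfsg.Agent.Lib.Known.AltSection.Generic
import Cfsg.Agent.Lib.Known.ChevSinger.Bruhat

set_option autoImplicit false
set_option maxRecDepth 10000

namespace CfsgLib.AltSection.G2

open Cfsg.Lie CfsgLib.Chev CfsgLib.Known.ChevSinger CfsgLib.Chev.Invol.G2

universe v

theorem ones_five : ¬ ((1 : ZMod 5) ^ 6 * ((1 + 1) * (1 ^ 2 + 1 + 1) * (1 ^ 3 + 1)) = 0) := by decide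

theorem ones_eight : ¬ ((1 : ZMod 8) ^ 6 * ((1 + 1) * (1 ^ 2 + 1 + 1) * (1 ^ 3 + 1)) = 0) := by decide

theorem can_six : ∀ m ∈ can, ∀ s : Fin chevG2.nroots,
    pv m (pv m (pv m (pv m (pv m (pv m s.val))))) = s.val := by decide +kernel

theorem sW_pow_six (l : List (Fin chevG2.rank)) : sW chevG2 l ^ 6 = 1 := by
  obtain ⟨m, hm, e⟩ := reduce l
  rw [e]
  refine Equiv.ext fun s => Fin.ext ?_
  simp only [pow_succ, pow_zero, one_mul, Equiv.Perm.mul_apply, Equiv.Perm.one_apply, sW_val]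
  exact can_six m hm s

variable (F : Type v) [Field F] [Finite F]

/-- The split torus. -/
abbrev tor : Subgroup ↥(chevG2.group F) := (chevG2.diagonalSubgroup F).subgroupOf (chevG2.group F)

theorem card_tor : Nat.card (tor F) = (Nat.card F - 1) ^ 2 := by
  rw [Nat.card_congr (Subgroup.subgroupOfEquivOfLe facts.diagonal_le_group).toEquiv,
    ← one_mul (Nat.card ↥(chevG2.diagonalSubgroup F)), card_diag_G2]
  rfl

theorem card_eq : Nat.card ↥(chevG2.group F) = Nat.card (tor F) *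
    (Nat.card F ^ 6 * ((Nat.card F + 1) * (Nat.card F ^ 2 + Nat.card F + 1) * (Nat.card F ^ 3 + 1))) := by
  rw [card_tor, ← one_mul (Nat.card ↥(chevG2.group F)), order_G2]
  obtain ⟨k, hk⟩ : ∃ k, Nat.card F = k + 1 :=
    ⟨Nat.card F - 1, by have := Finite.one_lt_card (α := F); omega⟩
  rw [hk]
  have a2 : (k + 1) ^ 2 = k * (k + 2) + 1 := by ring
  have a6 : (k + 1) ^ 6 =
      k * (((k + 1) ^ 2 + (k + 1) + 1) * ((k + 1) ^ 3 + 1)) + 1 := by ring
  conv_lhs => rw [a2]; arg 2; arg 2; rw [a6]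
  simp only [Nat.add_sub_cancel]
  ring

theorem finite_group : Finite ↥(chevG2.group F) := Nat.finite_of_card_ne_zero (by
  rw [card_eq, card_tor]
  have := Finite.one_lt_card (α := F)
  refine Nat.mul_ne_zero (pow_ne_zero _ (by omega)) ?_
  positivity)

theorem tor_comm : ∀ a ∈ tor F, ∀ b ∈ tor F, Commute a b := by
  intro a ha b hb
  obtain ⟨c, hc⟩ := facts.mem_diagonal_iff.1 ha
  obtain ⟨d, hd⟩ := facts.mem_diagonal_iff.1 hb
  refine Subtype.ext ?_
  simp only [Subgroup.coe_mul]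
  change (a : GL chevG2.Idx F) = _ at hc
  change (b : GL chevG2.Idx F) = _ at hd
  rw [hc, hd, hT, hT]
  exact dU_commute _ _

theorem tor_invol : Nat.card {t : ↥(chevG2.group F) // t ∈ tor F ∧ t ^ 2 = 1} ≤ 4 := by
  classical
  let R := {u : Fˣ // u ^ 2 = 1}
  have hR : Nat.card R ≤ 2 := by
    have h : Set.ncard ({u : Fˣ | u ^ 2 = 1}) ≤ Set.ncard ({1, -1} : Set Fˣ) := by
      refine Set.ncard_le_ncard (fun u hu => ?_) (Set.toFinite _)
      have h1 : u * u = 1 := by rw [← sq]; exact hu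
      rcases Units.inv_eq_self_iff u |>.1 (inv_eq_of_mul_eq_one_right h1) with rfl | rfl <;> simp
    rw [show Nat.card R = Set.ncard ({u : Fˣ | u ^ 2 = 1}) from Nat.card_coe_set_eq _]
    exact h.trans ((Set.ncard_insert_le _ _).trans (by simp))
  let f : R × R → ↥(chevG2.group F) := fun p =>
    ⟨hT chevG2 (fun i => if i = 0 then p.1.1 else p.2.1),
      facts.diagonal_le_group (facts.mem_diagonal_iff.2 ⟨_, rfl⟩)⟩
  have key : ∀ t : ↥(chevG2.group F), t ∈ tor F → t ^ 2 = 1 → ∃ p : R × R, f p = t := by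
    intro t ht ht2
    obtain ⟨c, hc⟩ := facts.mem_diagonal_iff.1 ht
    change (t : GL chevG2.Idx F) = _ at hc
    have h2 : hT chevG2 c ^ 2 = 1 := by
      rw [← hc, ← Subgroup.coe_pow, ht2, Subgroup.coe_one]
    obtain ⟨v0, v1, v2, v3, -, -, -, w0, w1, x0, x1⟩ := cartan_val
    have h7 := chiT_pow_eq_one facts h2 (s := 7) (by decide)
    have h8 := chiT_pow_eq_one facts h2 (s := chevG2.reflectRoot 1 7) (by decide +kernel)
    rw [chiT_eq, v2, v3] at h7
    rw [chiT_eq, x0, x1] at h8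
    simp only [zpow_neg, zpow_one, zpow_two] at h7 h8
    have a0 : c 0 ^ 2 = 1 := by
      have e : c 0 * c 0 * (c 1)⁻¹ * ((c 0)⁻¹ * c 1) = c 0 := by
        simp [mul_comm, mul_left_comm, mul_assoc]
      rw [← e, mul_pow, h7, h8, mul_one]
    have a1 : c 1 ^ 2 = 1 := by
      rw [mul_pow, inv_pow, a0, inv_one, one_mul] at h8
      exact h8
    refine ⟨(⟨c 0, a0⟩, ⟨c 1, a1⟩), Subtype.ext ?_⟩
    rw [hc]
    refine facts.hT_congr fun i hi => ?_
    have hi2 : i < 2 := hi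
    interval_cases i <;> simp
  haveI : Finite R := Subtype.finite
  let g : R × R → {t : ↥(chevG2.group F) // t ∈ tor F ∧ t ^ 2 = 1} := fun p =>
    if h : f p ∈ tor F ∧ f p ^ 2 = 1 then ⟨f p, h⟩ else ⟨1, Subgroup.one_mem _, one_pow _⟩
  have hg : Function.Surjective g := by
    rintro ⟨t, ht, ht2⟩
    obtain ⟨p, rfl⟩ := key t ht ht2
    exact ⟨p, dif_pos ⟨ht, ht2⟩⟩
  refine (Nat.card_le_card_of_surjective g hg).trans ?_
  rw [Nat.card_prod]
  exact Nat.mul_le_mul hR hR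

set_option maxHeartbeats 400000 in
theorem tor_fusion (y : ↥(chevG2.group F)) (S : Set ↥(chevG2.group F))
    (hS : ∀ d ∈ S, d ∈ tor F) (hS' : ∀ d ∈ S, y * d * y⁻¹ ∈ tor F) :
    ∃ n : ↥(chevG2.group F), (∀ d ∈ S, n * d * n⁻¹ = y * d * y⁻¹) ∧
      ∀ d ∈ S, Commute (n ^ 6) d := by
  have hF := DataG2.facts
  have hC : CommF.{v} chevG2 := good_G2.comm
  obtain ⟨b, hb, n, hn, w, hw, u, hu, hy⟩ := hF.bruhat_exists hC y.2
  obtain ⟨u1, hu1, k, hk, rfl⟩ := hF.mem_borel_iff.1 hb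
  have hkn : k * n ∈ chevG2.monomialSubgroup F :=
    Subgroup.mul_mem _ (hF.diag_le_monomial hk) hn
  refine ⟨⟨k * n, hF.monomial_le_group hkn⟩, fun d hd => Subtype.ext ?_, fun d hd => ?_⟩
  · simp only [Subgroup.coe_mul, Subgroup.coe_inv]
    obtain ⟨D, hDd⟩ : ∃ D, D = (d : GL chevG2.Idx F) := ⟨_, rfl⟩
    obtain ⟨e, hee⟩ : ∃ e, e = u1 * k * n * u * D * (u1 * k * n * u)⁻¹ := ⟨_, rfl⟩
    have he : e ∈ chevG2.diagonalSubgroup F := by
      have := hS' d hd
      rw [Subgroup.mem_subgroupOf] at this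
      simp only [Subgroup.coe_mul, Subgroup.coe_inv, hy, ← hDd, ← hee] at this
      exact this
    rw [hy, ← hDd, ← hee]
    have hdD : D ∈ chevG2.diagonalSubgroup F := hDd ▸ hS d hd
    have hnd : n * D * n⁻¹ ∈ chevG2.diagonalSubgroup F := monomial_conj_diag hF hn hdD
    have heu : e * u1 * e⁻¹ ∈ rootClosure chevG2 F (chevG2.nroots / 2 ≤ ·) :=
      (Subgroup.mem_normalizer_iff.1 (hF.diagonal_le_normalizer _ he) u1).1 hu1
    have hdu : D⁻¹ * u * D ∈ rootClosure chevG2 F (PosFlip w) := by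
      have h := (Subgroup.mem_normalizer_iff.1
        (hF.diagonal_le_normalizer _ (Subgroup.inv_mem _ hdD)) u).1 hu
      rwa [inv_inv] at h
    have hb1 : u1 * (k * (n * D * n⁻¹)) ∈ chevG2.borelSubgroup F :=
      Subgroup.mul_mem _ (hF.pos_le_borel hu1) (hF.diagonal_le_borel (Subgroup.mul_mem _ hk hnd))
    have hb2 : e * u1 * e⁻¹ * (e * k) ∈ chevG2.borelSubgroup F :=
      Subgroup.mul_mem _ (hF.pos_le_borel heu) (hF.diagonal_le_borel (Subgroup.mul_mem _ he hk))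
    have heq : u1 * (k * (n * D * n⁻¹)) * n * (D⁻¹ * u * D) = e * u1 * e⁻¹ * (e * k) * n * u := by
      calc _ = u1 * k * n * u * D := by group
        _ = e * (u1 * k * n * u) := by rw [hee]; group
        _ = _ := by group
    obtain ⟨hbe, -⟩ := hF.bruhat_unique hw hb1 hb2 hdu hu heq
    have e1 : (e * u1 * e⁻¹)⁻¹ * u1 = e * k * (k * (n * D * n⁻¹))⁻¹ := by
      rw [eq_mul_inv_iff_mul_eq, mul_assoc, hbe]
      group
    have e2 : (e * u1 * e⁻¹)⁻¹ * u1 ∈ rootClosure chevG2 F (chevG2.nroots / 2 ≤ ·) ⊓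
        chevG2.diagonalSubgroup F :=
      ⟨Subgroup.mul_mem _ (Subgroup.inv_mem _ heu) hu1, e1 ▸ Subgroup.mul_mem _
        (Subgroup.mul_mem _ he hk) (Subgroup.inv_mem _ (Subgroup.mul_mem _ hk hnd))⟩
    rw [hF.pos_inf_diagonal, Subgroup.mem_bot] at e2
    rw [e2, eq_comm, mul_inv_eq_one] at e1
    calc k * n * D * (k * n)⁻¹ = k * (n * D * n⁻¹) * k⁻¹ := by group
      _ = e := by rw [← e1]; group
  · refine Subtype.ext ?_
    simp only [Subgroup.coe_mul, Subgroup.coe_pow]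
    have hd6 : (k * n) ^ 6 ∈ chevG2.diagonalSubgroup F := by
      obtain ⟨l, k', hk', hl⟩ := hF.exists_nW hkn
      have hp : PermAct (k * n) (sW chevG2 l) := by
        have := hF.permAct_mul (hF.permAct_nW (F := F) l) (hF.permAct_diagonal hk')
        rwa [mul_one, ← hl] at this
      have h1 : hF.weylHom (F := F) ((⟨k * n, hkn⟩ : ↥(chevG2.monomialSubgroup F)) ^ 6) = 1 := by
        rw [map_pow, hF.weylHom_eq (g := ⟨k * n, hkn⟩) hp, sW_pow_six]
      rw [← MonoidHom.mem_ker, hF.weylHom_ker, Subgroup.mem_subgroupOf] at h1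
      exact h1
    obtain ⟨a, ha⟩ := hF.mem_diagonal_iff.1 hd6
    obtain ⟨a', ha'⟩ := hF.mem_diagonal_iff.1 (show (d : GL chevG2.Idx F) ∈ _ from hS d hd)
    rw [ha, ha', hT, hT]
    exact dU_commute _ _

theorem bound_six (h5 : Nat.card F % 5 = 1) {r : ℕ} (H : Subgroup ↥(chevG2.group F))
    (π : ↥H →* ↥(alternatingGroup (Fin r))) (hs : Function.Surjective π) : r ≤ 6 := by
  haveI := finite_group F
  haveI : Fact (Nat.Prime 5) := ⟨by norm_num⟩
  refine no_alt_seven (fusion_six (tor F) ?_ (tor_fusion F)) H π hs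
  refine (factorization_le (by norm_num) (card_eq F) Nat.card_pos.ne' (j := 0) ?_).trans (le_refl _)
  rw [zero_add, pow_one, ← ZMod.natCast_eq_zero_iff]
  have hq : (Nat.card F : ZMod 5) = 1 := by
    rw [← ZMod.natCast_mod, h5, Nat.cast_one]
  push_cast
  rw [hq]
  exact ones_five

theorem bound_seven (h4 : Nat.card F % 8 = 1) {r : ℕ} (H : Subgroup ↥(chevG2.group F))
    (π : ↥H →* ↥(alternatingGroup (Fin r))) (hs : Function.Surjective π) : r ≤ 7 := by
  haveI := finite_group F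
  refine no_alt_eight (tor F) (tor_comm F) (tor_invol F) ?_ H π hs
  refine factorization_le Nat.prime_two (card_eq F) Nat.card_pos.ne' (j := 2) ?_
  rw [show (2 : ℕ) ^ (2 + 1) = 8 by norm_num, ← ZMod.natCast_eq_zero_iff]
  have hq : (Nat.card F : ZMod 8) = 1 := by
    rw [← ZMod.natCast_mod, h4, Nat.cast_one]
  push_cast
  rw [hq]
  exact ones_eight

end CfsgLib.AltSection.G2
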